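import Mathlib
import Cfsg.Agent.Lib.ClassLowerSolv.CommRatio

/-!
# Upper bounds for the number of conjugacy classes
-/

set_option autoImplicit false
set_option linter.style.haveILetI false

namespace Cfsg.Agent.Lib.ClassesModFitting

variable {A : Type*} [Group A]

theorem classes_congr {B : Type*} [Group B] (e : A ≃* B) :
    Nat.card (ConjClasses A) = Nat.card (ConjClasses B) := by
  refine Nat.card_congr (Equiv.ofBijective (ConjClasses.map e.toMonoidHom)
    ⟨fun a b h => ?_, ConjClasses.map_surjective e.surjective⟩)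
  obtain ⟨a, rfl⟩ := ConjClasses.mk_surjective a
  obtain ⟨b, rfl⟩ := ConjClasses.mk_surjective b
  obtain ⟨c, hc⟩ := isConj_iff.mp (ConjClasses.mk_eq_mk_iff_isConj.mp h)
  obtain ⟨d, rfl⟩ := e.surjective c
  refine ConjClasses.mk_eq_mk_iff_isConj.mpr (isConj_iff.mpr ⟨d, e.injective ?_⟩)
  rw [map_mul, map_mul, map_inv]
  exact hc

theorem classes_le_of_surjective [Finite A] {B : Type*} [Group B] (f : A →* B)
    (hf : Function.Surjective f) : Nat.card (ConjClasses B) ≤ Nat.card (ConjClasses A) :=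
  Nat.card_le_card_of_surjective _ (ConjClasses.map_surjective hf)

theorem classes_eq_one_of_subsingleton [Subsingleton A] : Nat.card (ConjClasses A) = 1 := by
  haveI : Subsingleton (ConjClasses A) := ConjClasses.mk_surjective.subsingleton
  exact Nat.card_of_subsingleton (ConjClasses.mk (1 : A))

theorem classes_le_index [Finite A] (H : Subgroup A) :
    Nat.card (ConjClasses A) ≤ Nat.card (ConjClasses H) * H.index := by
  have h := ClassLowerSolv.classes_mul_card_le H
  rw [← H.card_mul_index, mul_comm (Nat.card H) H.index, ← mul_assoc] at h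
  exact Nat.le_of_mul_le_mul_right h Nat.card_pos

/-- Gallagher: `k(A) ≤ k(N) k(A/N)`. -/
theorem classes_le_normal [Finite A] (N : Subgroup A) [N.Normal] :
    Nat.card (ConjClasses A) ≤ Nat.card (ConjClasses N) * Nat.card (ConjClasses (A ⧸ N)) := by
  classical
  have hfib : ∀ z : (A ⧸ N) × (A ⧸ N),
      Nat.card {w : A × A // Commute w.1 w.2 ∧ (w.1 : A ⧸ N) = z.1 ∧ (w.2 : A ⧸ N) = z.2} ≤
        Nat.card {w : N × N // Commute w.1 w.2} := by
    rintro ⟨a, b⟩
    let Y : A → A := fun x => Classical.epsilon fun y => (y : A ⧸ N) = b ∧ Commute x y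
    let X : N → A := fun n => Classical.epsilon fun x => (x : A ⧸ N) = a ∧ Commute x (n : A)
    let f : {w : A × A // Commute w.1 w.2 ∧ (w.1 : A ⧸ N) = a ∧ (w.2 : A ⧸ N) = b} →
        {w : A × N // (w.1 : A ⧸ N) = a ∧ Commute w.1 (w.2 : A)} := fun w =>
      have hY := Classical.epsilon_spec (p := fun y : A => (y : A ⧸ N) = b ∧ Commute w.1.1 y)
        ⟨w.1.2, w.2.2.2, w.2.1⟩
      ⟨(w.1.1, ⟨(Y w.1.1)⁻¹ * w.1.2, QuotientGroup.eq.mp (hY.1.trans w.2.2.2.symm)⟩),
        w.2.2.1, hY.2.inv_right.mul_right w.2.1⟩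
    let g : {w : A × N // (w.1 : A ⧸ N) = a ∧ Commute w.1 (w.2 : A)} →
        {w : N × N // Commute w.1 w.2} := fun w =>
      have hX := Classical.epsilon_spec (p := fun x : A => (x : A ⧸ N) = a ∧ Commute x (w.1.2 : A))
        ⟨w.1.1, w.2⟩
      ⟨(⟨(X w.1.2)⁻¹ * w.1.1, QuotientGroup.eq.mp (hX.1.trans w.2.1.symm)⟩, w.1.2),
        Subtype.ext (hX.2.inv_left.mul_left w.2.2).eq⟩
    have hf : Function.Injective f := by
      intro w w' h
      have h1 : w.1.1 = w'.1.1 := congrArg (fun t => t.1.1) h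
      have h2 : (Y w.1.1)⁻¹ * w.1.2 = (Y w'.1.1)⁻¹ * w'.1.2 :=
        congrArg (fun t => ((t.1.2 : N) : A)) h
      rw [h1] at h2
      exact Subtype.ext (Prod.ext h1 (mul_left_cancel h2))
    have hg : Function.Injective g := by
      intro w w' h
      have h1 : w.1.2 = w'.1.2 := congrArg (fun t => t.1.2) h
      have h2 : (X w.1.2)⁻¹ * w.1.1 = (X w'.1.2)⁻¹ * w'.1.1 :=
        congrArg (fun t => ((t.1.1 : N) : A)) h
      rw [h1] at h2
      exact Subtype.ext (Prod.ext (mul_left_cancel h2) h1)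
    exact Nat.card_le_card_of_injective _ (hg.comp hf)
  haveI := Fintype.ofFinite A
  haveI := Fintype.ofFinite (A ⧸ N)
  have key : Nat.card {w : A × A // Commute w.1 w.2} ≤
      Nat.card {w : N × N // Commute w.1 w.2} *
        Nat.card {z : (A ⧸ N) × (A ⧸ N) // Commute z.1 z.2} := by
    let e : {w : A × A // Commute w.1 w.2} →
        Σ z : {z : (A ⧸ N) × (A ⧸ N) // Commute z.1 z.2},
          {w : A × A // Commute w.1 w.2 ∧ (w.1 : A ⧸ N) = z.1.1 ∧ (w.2 : A ⧸ N) = z.1.2} :=
      fun w => ⟨⟨((w.1.1 : A ⧸ N), (w.1.2 : A ⧸ N)), w.2.map (QuotientGroup.mk' N)⟩,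
        ⟨w.1, w.2, rfl, rfl⟩⟩
    refine (Nat.card_le_card_of_injective e fun w w' h => ?_).trans ?_
    · exact Subtype.ext (congrArg (fun t => (t.2 : A × A)) h)
    rw [Nat.card_sigma]
    refine (Finset.sum_le_card_nsmul _ _ _ fun z _ => hfib z.1).trans ?_
    rw [Finset.card_univ, ← Nat.card_eq_fintype_card, smul_eq_mul, mul_comm]
  rw [card_comm_eq_card_conjClasses_mul_card, card_comm_eq_card_conjClasses_mul_card,
    card_comm_eq_card_conjClasses_mul_card, Subgroup.card_eq_card_quotient_mul_card_subgroup N]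
    at key
  refine Nat.le_of_mul_le_mul_right (key.trans_eq ?_)
    (mul_pos Nat.card_pos Nat.card_pos : 0 < Nat.card (A ⧸ N) * Nat.card N)
  ring

/-- The conjugacy classes of elements whose centralisers have order at most `D`. -/
theorem classes_meet_lt [Finite A] (T : Set A) (D : ℕ) (h1 : (1 : A) ∉ T)
    (hD : ∀ x ∈ T, Nat.card (Subgroup.centralizer ({x} : Set A)) ≤ D) :
    (ConjClasses.mk '' T).ncard ≤ D - 1 := by
  classical
  rcases T.eq_empty_or_nonempty with rfl | ⟨x0, hx0⟩
  · simp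
  haveI := Fintype.ofFinite A
  haveI := Fintype.ofFinite (ConjClasses A)
  set I := (ConjClasses.mk '' T).toFinset with hI
  have hc : ∀ c ∈ I, Nat.card A ≤ D * (Finset.univ.filter fun y => ConjClasses.mk y = c).card := by
    intro c hc
    rw [hI, Set.mem_toFinset] at hc
    obtain ⟨x, hx, rfl⟩ := hc
    have h2 : (Subgroup.centralizer ({x} : Set A)).index =
        (Finset.univ.filter fun y => ConjClasses.mk y = ConjClasses.mk x).card := by
      rw [← Set.ncard_coe_finset]
      have : ((Finset.univ.filter fun y => ConjClasses.mk y = ConjClasses.mk x : Finset A) : Set A) =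
          MulAction.orbit (ConjAct A) x := by
        ext y
        simp [ConjClasses.mk_eq_mk_iff_isConj, ConjAct.mem_orbit_conjAct]
      rw [this, ← MulAction.index_stabilizer, ConjAct.stabilizer_eq_centralizer]
      rfl
    rw [← (Subgroup.centralizer ({x} : Set A)).card_mul_index, h2]
    exact Nat.mul_le_mul_right _ (hD x hx)
  have hpos : 0 < D := lt_of_lt_of_le Nat.card_pos (hD x0 hx0)
  have hsum : I.card * Nat.card A ≤ D * ∑ c ∈ I, (Finset.univ.filter fun y => ConjClasses.mk y = c).card := by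
    rw [Finset.mul_sum]
    exact (Finset.card_nsmul_le_sum I _ _ hc).trans_eq' (smul_eq_mul _ _).symm
  have hlt : (∑ c ∈ I, (Finset.univ.filter fun y => ConjClasses.mk y = c).card) < Nat.card A := by
    rw [← Finset.card_biUnion fun c _ d _ hcd => Finset.disjoint_left.mpr fun y hy hy' => hcd
      ((Finset.mem_filter.mp hy).2.symm.trans (Finset.mem_filter.mp hy').2),
      Nat.card_eq_fintype_card, ← Finset.card_univ]
    refine Finset.card_lt_card (Finset.ssubset_univ_iff.mpr fun h => ?_)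
    have h2 := Finset.mem_univ (1 : A)
    rw [← h, Finset.mem_biUnion] at h2
    obtain ⟨c, hcI, h3⟩ := h2
    rw [hI, Set.mem_toFinset] at hcI
    obtain ⟨x, hx, rfl⟩ := hcI
    exact h1 (isConj_one_right.mp (ConjClasses.mk_eq_mk_iff_isConj.mp
      (Finset.mem_filter.mp h3).2) ▸ hx)
  have hlt2 : I.card * Nat.card A < D * Nat.card A :=
    hsum.trans_lt (Nat.mul_lt_mul_of_pos_left hlt hpos)
  have := Nat.lt_of_mul_lt_mul_right hlt2
  have hcard : (ConjClasses.mk '' T).ncard = I.card := by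
    rw [← Set.ncard_coe_finset, hI, Set.coe_toFinset]
  omega

theorem classes_le_union [Finite A] (S T : Set A) (hST : ∀ x, x ∈ S ∨ x ∈ T) :
    Nat.card (ConjClasses A) ≤ (ConjClasses.mk '' S).ncard + (ConjClasses.mk '' T).ncard := by
  refine (le_of_eq ?_).trans (Set.ncard_union_le _ _)
  rw [← Set.image_union, ← Set.ncard_univ]
  congr 1
  refine (Set.eq_univ_of_forall fun c => ?_).symm
  obtain ⟨x, rfl⟩ := ConjClasses.mk_surjective c
  exact ⟨x, hST x, rfl⟩

/-- Classes of `p`-elements are at most as many as the elements of a Sylow `p`-subgroup. -/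
theorem classes_pElements_le [Finite A] {p : ℕ} [hp : Fact p.Prime] (S : Set A)
    (hS : ∀ x ∈ S, IsPGroup p (Subgroup.zpowers x)) {b : ℕ}
    (hb : ∀ R : Subgroup A, IsPGroup p R → Nat.card R ≤ b) :
    (ConjClasses.mk '' S).ncard ≤ b := by
  classical
  obtain ⟨R⟩ : Nonempty (Sylow p A) := inferInstance
  refine le_trans ?_ (hb R.toSubgroup R.2)
  rw [← SetLike.coe_sort_coe, Nat.card_coe_set_eq]
  refine (Set.ncard_le_ncard ?_ (Set.toFinite _)).trans (Set.ncard_image_le (f := ConjClasses.mk)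
    (Set.toFinite _))
  rintro _ ⟨x, hx, rfl⟩
  obtain ⟨Q, hQ⟩ := (hS x hx).exists_le_sylow
  obtain ⟨g, hg⟩ := MulAction.exists_smul_eq A R Q
  have hxQ : x ∈ (Q : Subgroup A) := hQ (Subgroup.mem_zpowers x)
  rw [← hg] at hxQ
  obtain ⟨y, hy, rfl⟩ := hxQ
  exact ⟨y, hy, ConjClasses.mk_eq_mk_iff_isConj.mpr (isConj_iff.mpr ⟨g, rfl⟩)⟩

/-- Class numbers of a group embedded in a product. -/
theorem classes_le_prod {ι : Type*} [DecidableEq ι] {Y : ι → Type} [∀ i, Group (Y i)]
    [∀ i, Finite (Y i)] (b : ι → ℕ)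
    (hb : ∀ i, ∀ S : Subgroup (Y i), Nat.card (ConjClasses S) ≤ b i) :
    ∀ (s : Finset ι) {L : Type} [Group L] [Finite L] (f : ∀ i, L →* Y i),
      (∀ g, (∀ i ∈ s, f i g = 1) → g = 1) → Nat.card (ConjClasses L) ≤ ∏ i ∈ s, b i := by
  intro s
  induction s using Finset.induction_on with
  | empty =>
    intro L _ _ f hf
    haveI : Subsingleton L := ⟨fun x y => (hf x (by simp)).trans (hf y (by simp)).symm⟩
    simp [classes_eq_one_of_subsingleton]
  | insert i s hi ih =>
    intro L _ _ f hf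
    rw [Finset.prod_insert hi, mul_comm]
    refine (classes_le_normal (f i).ker).trans (Nat.mul_le_mul ?_ ?_)
    · refine ih (fun j => (f j).comp (f i).ker.subtype) fun g hg => Subtype.ext (hf g fun j hj => ?_)
      rcases Finset.mem_insert.mp hj with rfl | hj
      · exact g.2
      · exact hg j hj
    · rw [classes_congr (QuotientGroup.quotientKerEquivRange (f i))]
      exact hb i _

end Cfsg.Agent.Lib.ClassesModFitting
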