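import Mathlib
import Cfsg.Agent.Lib.ClassesModFitting.Count

/-!
# Groups of isometries of a pairing: stabilisers and a first class number bound
-/

set_option autoImplicit false
set_option linter.style.haveILetI false
set_option linter.unusedSectionVars false

namespace Cfsg.Agent.Lib.ClassesModFitting

variable {F : Type*} [Field F] {Q : Type*} [CommGroup Q] {A : Type*} [Group A]

/-- `A` acts faithfully as isometries of a nondegenerate alternating pairing. -/
structure IsIso (P : Q →* Q →* Fˣ) (φ : A →* MulAut Q) : Prop where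
  inj : Function.Injective φ
  alt : ∀ u, P u u = 1
  nd : ∀ u, (∀ v, P u v = 1) → u = 1
  inv : ∀ g u v, P (φ g u) (φ g v) = P u v

variable {P : Q →* Q →* Fˣ} {φ : A →* MulAut Q}

theorem IsIso.symm (h : IsIso P φ) (u v : Q) : P u v * P v u = 1 := by
  have := h.alt (u * v)
  simp only [map_mul, MonoidHom.mul_apply, h.alt, one_mul, mul_one] at this
  rwa [mul_comm] at this

theorem IsIso.swap (h : IsIso P φ) {u v : Q} (huv : P u v = 1) : P v u = 1 := by
  have := h.symm u v
  rwa [huv, one_mul] at this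

theorem IsIso.ext (h : IsIso P φ) {x : A} (hx : ∀ v, φ x v = v) : x = 1 :=
  h.inj (by rw [map_one]; exact MulEquiv.ext hx)

/-- The orthogonal of a subgroup. -/
def orth (P : Q →* Q →* Fˣ) (S : Subgroup Q) : Subgroup Q :=
  ((MonoidHom.compHom' S.subtype).comp P.flip).ker

theorem mem_orth {S : Subgroup Q} {v : Q} : v ∈ orth P S ↔ ∀ s ∈ S, P s v = 1 := by
  rw [orth, MonoidHom.mem_ker]
  exact ⟨fun h s hs => DFunLike.congr_fun h ⟨s, hs⟩, fun h => MonoidHom.ext fun s => h s s.2⟩

/-- The pointwise stabiliser of a subgroup of `Q`. -/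
def fixer (φ : A →* MulAut Q) (S : Subgroup Q) : Subgroup A where
  carrier := {x | ∀ s ∈ S, φ x s = s}
  one_mem' := fun s _ => by rw [map_one, MulAut.one_apply]
  mul_mem' := fun {a b} ha hb s hs => by rw [map_mul, MulAut.mul_apply, hb s hs, ha s hs]
  inv_mem' := fun {a} ha s hs => by
    conv_lhs => rw [← ha s hs]
    rw [← MulAut.mul_apply, ← map_mul, inv_mul_cancel, map_one, MulAut.one_apply]

theorem mem_fixer {S : Subgroup Q} {x : A} : x ∈ fixer φ S ↔ ∀ s ∈ S, φ x s = s := Iff.rfl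

theorem mem_fixer_zpowers {u : Q} {x : A} : x ∈ fixer φ (Subgroup.zpowers u) ↔ φ x u = u := by
  refine ⟨fun h => h u (Subgroup.mem_zpowers u), fun h s hs => ?_⟩
  obtain ⟨k, rfl⟩ := Subgroup.mem_zpowers_iff.mp hs
  rw [map_zpow, h]

theorem mem_fixer_sup {S T : Subgroup Q} {x : A} (h1 : x ∈ fixer φ S) (h2 : x ∈ fixer φ T) :
    x ∈ fixer φ (S ⊔ T) := by
  intro z hz
  obtain ⟨s, hs, t, ht, rfl⟩ := Subgroup.mem_sup.mp hz
  rw [map_mul, h1 s hs, h2 t ht]

theorem card_hom_le (H : Type*) [CommGroup H] [Finite H] :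
    Finite (H →* Fˣ) ∧ Nat.card (H →* Fˣ) ≤ Nat.card H := by
  classical
  haveI := Fintype.ofFinite H
  have hli := (linearIndependent_monoidHom H F).comp (fun ψ : H →* Fˣ => (Units.coeHom F).comp ψ)
    fun a b h => MonoidHom.ext fun x => Units.ext (DFunLike.congr_fun h x)
  haveI := hli.finite
  haveI := Fintype.ofFinite (H →* Fˣ)
  refine ⟨inferInstance, ?_⟩
  rw [Nat.card_eq_fintype_card, Nat.card_eq_fintype_card]
  exact hli.fintype_card_le_finrank.trans_eq (Module.finrank_fintype_fun_eq_card F)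

variable [Finite Q]

theorem IsIso.card_mul_card_orth (h : IsIso P φ) (S : Subgroup Q) :
    Nat.card S * Nat.card (orth P S) = Nat.card Q := by
  refine le_antisymm ?_ ?_
  · haveI := (card_hom_le (F := F) (Q ⧸ orth P S)).1
    let f : S → (Q ⧸ orth P S →* Fˣ) := fun s =>
      QuotientGroup.lift (orth P S) (P (s : Q)) fun v hv => mem_orth.mp hv s s.2
    have hf : Function.Injective f := fun s t hst => by
      refine Subtype.ext ?_
      rw [← mul_inv_eq_one]
      refine h.nd _ fun v => ?_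
      have : P (s : Q) v = P (t : Q) v := DFunLike.congr_fun hst (QuotientGroup.mk v)
      rw [map_mul, map_inv, MonoidHom.mul_apply, MonoidHom.inv_apply, this, mul_inv_cancel]
    rw [Subgroup.card_eq_card_quotient_mul_card_subgroup (orth P S)]
    exact Nat.mul_le_mul_right _ ((Nat.card_le_card_of_injective f hf).trans (card_hom_le _).2)
  · haveI := (card_hom_le (F := F) S).1
    rw [← (orth P S).card_mul_index, mul_comm]
    refine Nat.mul_le_mul_right _ ?_
    rw [orth, Subgroup.index_ker]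
    exact (Subgroup.card_le_card_group _).trans (card_hom_le _).2

theorem IsIso.orth_invariant (h : IsIso P φ) {S : Subgroup Q} {x : A} (hx : x ∈ fixer φ S) (u : Q) :
    u⁻¹ * φ x u ∈ orth P S := by
  refine mem_orth.mpr fun s hs => ?_
  have : P s (φ x u) = P s u := by
    conv_lhs => rw [← hx s hs]
    exact h.inv x s u
  rw [map_mul, map_inv, this, inv_mul_cancel]

/-- Orbit times stabiliser. -/
theorem card_le_ncard_mul [Finite A] (φ : A →* MulAut Q) (H : Subgroup A) (u : Q) (T : Set Q)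
    (hT : ∀ x ∈ H, φ x u ∈ T) :
    Nat.card H ≤ T.ncard * Nat.card (H ⊓ fixer φ (Subgroup.zpowers u) : Subgroup A) := by
  classical
  let R : Q → A := fun w => Classical.epsilon fun y : A => y ∈ H ∧ φ y u = w
  have hR : ∀ x : H, R (φ x u) ∈ H ∧ φ (R (φ x u)) u = φ x u := fun x =>
    Classical.epsilon_spec (p := fun y : A => y ∈ H ∧ φ y u = φ (x : A) u) ⟨x, x.2, rfl⟩
  let f : H → T × (H ⊓ fixer φ (Subgroup.zpowers u) : Subgroup A) := fun x =>
    (⟨φ x u, hT x x.2⟩, ⟨(R (φ x u))⁻¹ * x,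
      Subgroup.mem_inf.mpr ⟨mul_mem (inv_mem (hR x).1) x.2, mem_fixer_zpowers.mpr (by
        rw [map_mul, MulAut.mul_apply, map_inv, MulAut.inv_apply, MulEquiv.symm_apply_eq]
        exact (hR x).2.symm)⟩⟩)
  refine (Nat.card_le_card_of_injective f fun x y hxy => ?_).trans_eq ?_
  · have h1 : φ (x : A) u = φ (y : A) u := congrArg (fun t => ((t.1 : T) : Q)) hxy
    have h2 : (R (φ x u))⁻¹ * (x : A) = (R (φ y u))⁻¹ * y := congrArg (fun t => ((t.2) : A)) hxy
    rw [h1] at h2
    exact Subtype.ext (mul_left_cancel h2)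
  · rw [Nat.card_prod, Nat.card_coe_set_eq]

/-- `d * (d + 1) / 2`. -/
def tri : ℕ → ℕ
  | 0 => 0
  | d + 1 => tri d + (d + 1)

theorem two_mul_tri : ∀ d, 2 * tri d = d * (d + 1)
  | 0 => rfl
  | d + 1 => by rw [tri, mul_add, two_mul_tri d]; ring

theorem tri_mono : Monotone tri := monotone_nat_of_le_succ fun _ => by rw [tri]; omega

variable {p : ℕ} [hp : Fact p.Prime]

theorem card_subgroup_pow (hexp : ∀ v : Q, v ^ p = 1) (S : Subgroup Q) : ∃ e, Nat.card S = p ^ e :=
  (IsPGroup.iff_card).mp fun g : S => ⟨1, by rw [pow_one]; exact Subtype.ext (hexp g)⟩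

theorem mul_card_le_of_lt (hexp : ∀ v : Q, v ^ p = 1) {S T : Subgroup Q} (hlt : S < T) :
    p * Nat.card S ≤ Nat.card T := by
  obtain ⟨a, ha⟩ := card_subgroup_pow hexp S
  obtain ⟨b, hb⟩ := card_subgroup_pow hexp T
  have hle : Nat.card S < Nat.card T := by
    rcases (Subgroup.card_le_of_le hlt.le).lt_or_eq with h | h
    · exact h
    · exact absurd (Subgroup.eq_of_le_of_card_ge hlt.le h.ge) hlt.ne
  rw [ha, hb] at hle ⊢
  rw [← pow_succ']
  exact Nat.pow_le_pow_right hp.out.pos ((Nat.pow_lt_pow_iff_right hp.out.one_lt).mp hle)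

theorem IsIso.card_fixer_le [Finite A] (h : IsIso P φ) (hexp : ∀ v : Q, v ^ p = 1) :
    ∀ (d : ℕ) (S : Subgroup Q), Nat.card (orth P S) ≤ p ^ d →
      Nat.card (fixer φ S) ≤ p ^ tri d := by
  intro d
  induction d with
  | zero =>
    intro S hS
    rw [pow_zero] at hS
    have hcard := h.card_mul_card_orth S
    rw [le_antisymm hS Nat.card_pos, mul_one] at hcard
    have htop : S = ⊤ := Subgroup.eq_top_of_card_eq S hcard
    haveI : Subsingleton (fixer φ S) := ⟨fun a b => Subtype.ext ((h.ext (x := (a : A))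
      fun v => a.2 v (htop ▸ Subgroup.mem_top v)).trans (h.ext (x := (b : A))
      fun v => b.2 v (htop ▸ Subgroup.mem_top v)).symm)⟩
    rw [Nat.card_of_subsingleton (1 : fixer φ S)]
    exact Nat.one_le_pow _ _ hp.out.pos
  | succ d ih =>
    intro S hS
    by_cases htop : S = ⊤
    · refine (ih S ?_).trans (Nat.pow_le_pow_right hp.out.pos (tri_mono d.le_succ))
      have hcard := h.card_mul_card_orth S
      rw [htop, Subgroup.card_top] at hcard
      rw [htop, Nat.eq_of_mul_eq_mul_left (Nat.card_pos (α := Q)) (hcard.trans (mul_one _).symm)]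
      exact Nat.one_le_pow _ _ hp.out.pos
    obtain ⟨u, hu⟩ : ∃ u, u ∉ S := by
      by_contra hall
      push Not at hall
      exact htop (eq_top_iff.mpr fun v _ => hall v)
    set S' := S ⊔ Subgroup.zpowers u with hS'
    have hlt : S < S' := left_lt_sup.mpr fun hle => hu (hle (Subgroup.mem_zpowers u))
    have hsmall : Nat.card (orth P S') ≤ p ^ d := by
      have h1 := h.card_mul_card_orth S'
      have h2 := h.card_mul_card_orth S
      have h3 := Nat.mul_le_mul_right (Nat.card (orth P S')) (mul_card_le_of_lt hexp hlt)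
      rw [h1, ← h2, mul_assoc, mul_left_comm] at h3
      have h4 := Nat.le_of_mul_le_mul_left h3 Nat.card_pos
      rw [pow_succ'] at hS
      exact Nat.le_of_mul_le_mul_left (h4.trans hS) hp.out.pos
    refine (card_le_ncard_mul φ (fixer φ S) u ((fun w => u * w) '' (orth P S : Set Q))
      fun x hx => ⟨_, h.orth_invariant hx u, mul_inv_cancel_left _ _⟩).trans ?_
    rw [tri, pow_add, mul_comm (p ^ tri d)]
    refine Nat.mul_le_mul ((Set.ncard_image_le (Set.toFinite _)).trans ?_) ?_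
    · rw [← Nat.card_coe_set_eq]
      exact hS
    · refine (Subgroup.card_le_of_le (K := fixer φ S') fun x hx => ?_).trans (ih S' hsmall)
      exact mem_fixer_sup (Subgroup.mem_inf.mp hx).1 (Subgroup.mem_inf.mp hx).2

theorem IsIso.orth_le (h : IsIso P φ) {n j : ℕ} (hQ : Nat.card Q = p ^ (2 * n))
    (hj : j ≤ 2 * n) {S : Subgroup Q} (hS : p ^ j ≤ Nat.card S) :
    Nat.card (orth P S) ≤ p ^ (2 * n - j) := by
  have h1 := Nat.mul_le_mul_right (Nat.card (orth P S)) hS
  rw [h.card_mul_card_orth S, hQ, ← Nat.add_sub_cancel' hj, pow_add] at h1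
  exact Nat.le_of_mul_le_mul_left h1 (Nat.pow_pos hp.out.pos)

/-- Centralisers of elements moving some vector out of a large subspace. -/
theorem IsIso.card_centralizer_le [Finite A] (h : IsIso P φ) (hexp : ∀ v : Q, v ^ p = 1)
    {n j : ℕ} (hQ : Nat.card Q = p ^ (2 * n)) (hj : j ≤ 2 * n) (x : A) (v : Q) (hv : v ≠ 1)
    (S : Subgroup Q) (hS : p ^ j ≤ Nat.card S)
    (hfix : ∀ c : A, c * x = x * c → φ c v = v → c ∈ fixer φ S) :
    Nat.card (Subgroup.centralizer ({x} : Set A)) ≤
      (p ^ (2 * n) - 1) * p ^ tri (2 * n - j) := by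
  refine (card_le_ncard_mul φ _ v (Set.univ \ {1}) fun c _ => ⟨trivial, fun hc => ?_⟩).trans ?_
  · exact hv ((φ c).injective (hc.trans (map_one _).symm))
  rw [Set.ncard_sdiff_singleton_of_mem (Set.mem_univ _), Set.ncard_univ, hQ]
  refine Nat.mul_le_mul_left _ ((Subgroup.card_le_of_le ?_).trans
    (h.card_fixer_le hexp _ S (h.orth_le hQ hj hS)))
  intro c hc
  exact hfix c (Subgroup.mem_centralizer_singleton_iff.mp hc.1) (mem_fixer_zpowers.mp hc.2)

theorem card_zpowers_eq (hexp : ∀ v : Q, v ^ p = 1) {v : Q} (hv : v ≠ 1) :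
    Nat.card (Subgroup.zpowers v) = p := by
  rw [Nat.card_zpowers, orderOf_eq_prime (hexp v) hv]

theorem IsIso.centralizer_nonscalar [Finite A] (h : IsIso P φ) (hexp : ∀ v : Q, v ^ p = 1)
    {n : ℕ} (hn : 1 ≤ n) (hQ : Nat.card Q = p ^ (2 * n)) {x : A}
    (hx : ∃ v, φ x v ∉ Subgroup.zpowers v) :
    Nat.card (Subgroup.centralizer ({x} : Set A)) ≤
      (p ^ (2 * n) - 1) * p ^ tri (2 * n - 2) := by
  obtain ⟨v, hv⟩ := hx
  have hv1 : v ≠ 1 := fun hv1 => hv (by rw [hv1, map_one]; exact one_mem _)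
  refine h.card_centralizer_le hexp hQ (by omega) x v hv1
    (Subgroup.zpowers v ⊔ Subgroup.zpowers (φ x v)) ?_ fun c hc hcv => ?_
  · have := mul_card_le_of_lt hexp (left_lt_sup.mpr fun hle => hv (hle (Subgroup.mem_zpowers _)) :
      Subgroup.zpowers v < Subgroup.zpowers v ⊔ Subgroup.zpowers (φ x v))
    rw [card_zpowers_eq hexp hv1] at this
    rwa [sq]
  · refine mem_fixer_sup (mem_fixer_zpowers.mpr hcv) (mem_fixer_zpowers.mpr ?_)
    rw [← MulAut.mul_apply, ← map_mul, hc, map_mul, MulAut.mul_apply, hcv]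

theorem IsIso.scalar_subsingleton_two (h : IsIso P φ) (hexp : ∀ v : Q, v ^ 2 = 1) {x : A}
    (hx : ∀ v, φ x v ∈ Subgroup.zpowers v) : x = 1 := by
  refine h.ext fun v => ?_
  obtain ⟨k, hk⟩ := Subgroup.mem_zpowers_iff.mp (hx v)
  rcases Int.even_or_odd' k with ⟨i, rfl | rfl⟩
  · rw [zpow_mul, zpow_ofNat, hexp, one_zpow] at hk
    have hv : v = 1 := (φ x).injective (hk.symm.trans (map_one _).symm)
    rw [hv, map_one]
  · rw [zpow_add, zpow_mul, zpow_ofNat, hexp, one_zpow, one_mul, zpow_one] at hk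
    exact hk.symm

/-- A scalar is `1` or `-1`. -/
theorem IsIso.scalar_cases [Nontrivial Q] (h : IsIso P φ) (hexp : ∀ v : Q, v ^ p = 1) {x : A}
    (hx : ∀ v, φ x v ∈ Subgroup.zpowers v) : x = 1 ∨ ∀ v, φ x v = v⁻¹ := by
  obtain ⟨u, hu⟩ := exists_ne (1 : Q)
  obtain ⟨v0, hv0⟩ : ∃ v0, P u v0 ≠ 1 := by
    by_contra hall
    push Not at hall
    exact hu (h.nd u hall)
  have hord : ∀ {v}, P u v ≠ 1 → orderOf (P u v) = p := fun {v} hv =>
    orderOf_eq_prime (by rw [← map_pow, hexp, map_one]) hv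
  obtain ⟨a, ha⟩ := Subgroup.mem_zpowers_iff.mp (hx u)
  have key : ∀ v, P u v ≠ 1 → φ x v = v ^ a ∧ (p : ℤ) ∣ a * a - 1 := by
    intro v hv
    obtain ⟨b, hb⟩ := Subgroup.mem_zpowers_iff.mp (hx v)
    obtain ⟨c, hc⟩ := Subgroup.mem_zpowers_iff.mp (hx (u * v))
    rw [map_mul, ← ha, ← hb] at hc
    have e1 : P u v ^ c = P u v ^ b := by
      have := congrArg (P u) hc
      rwa [map_zpow, map_mul, map_mul, map_zpow, map_zpow, h.alt, one_mul, one_zpow, one_mul] at this
    have e2 : P u v ^ c = P u v ^ a := by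
      have := congrArg (fun z => P z v) hc
      simp only [map_zpow, map_mul, MonoidHom.zpow_apply, MonoidHom.mul_apply, h.alt, one_zpow,
        mul_one] at this
      exact this
    have hba : (p : ℤ) ∣ a - b := by
      have := (orderOf_dvd_sub_iff_zpow_eq_zpow (x := P u v)).mpr (e2.symm.trans e1)
      rwa [hord hv] at this
    refine ⟨?_, ?_⟩
    · rw [← hb]
      exact ((orderOf_dvd_sub_iff_zpow_eq_zpow (x := v)).mp
        ((Int.natCast_dvd_natCast.mpr (orderOf_dvd_of_pow_eq_one (hexp v))).trans hba)).symm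
    · have e3 : P u v ^ (a * b) = P u v ^ (1 : ℤ) := by
        rw [zpow_one, zpow_mul]
        conv_rhs => rw [← h.inv x u v, ← ha, ← hb]
        rw [map_zpow, map_zpow, MonoidHom.zpow_apply]
      have := (orderOf_dvd_sub_iff_zpow_eq_zpow (x := P u v)).mpr e3
      rw [hord hv] at this
      have h2 := dvd_add this (dvd_mul_of_dvd_right hba a)
      rwa [show a * b - 1 + a * (a - b) = a * a - 1 by ring] at h2
  have hall : ∀ v, φ x v = v ^ a := by
    intro v
    by_cases hv : P u v = 1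
    · have h1 := (key (v * v0) (by rwa [map_mul, hv, one_mul])).1
      rw [map_mul, mul_zpow, (key v0 hv0).1] at h1
      exact mul_right_cancel h1
    · exact (key v hv).1
  have hd := (key v0 hv0).2
  rw [show a * a - 1 = (a - 1) * (a + 1) by ring] at hd
  have hdvd : ∀ {i j : ℤ}, (p : ℤ) ∣ i - j → ∀ v : Q, v ^ i = v ^ j := fun hij v =>
    (orderOf_dvd_sub_iff_zpow_eq_zpow (x := v)).mp
      ((Int.natCast_dvd_natCast.mpr (orderOf_dvd_of_pow_eq_one (hexp v))).trans hij)
  rcases (Nat.prime_iff_prime_int.mp hp.out).dvd_mul.mp hd with h1 | h1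
  · exact Or.inl (h.ext fun v => by rw [hall, hdvd h1 v, zpow_one])
  · exact Or.inr fun v => by
      rw [hall, hdvd (i := a) (j := -1) (by rwa [sub_neg_eq_add]) v, zpow_neg_one]

theorem IsIso.classes_le_general [Finite A] (h : IsIso P φ) (hexp : ∀ v : Q, v ^ p = 1)
    {n : ℕ} (hn : 1 ≤ n) (hQ : Nat.card Q = p ^ (2 * n)) :
    Nat.card (ConjClasses A) ≤
      (if p = 2 then 1 else 2) + ((p ^ (2 * n) - 1) * p ^ tri (2 * n - 2) - 1) := by
  haveI : Nontrivial Q := Finite.one_lt_card_iff_nontrivial.mp (by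
    rw [hQ]; exact Nat.one_lt_pow (by omega) hp.out.one_lt)
  set Z : Set A := {x | ∀ v, φ x v ∈ Subgroup.zpowers v} with hZ
  refine (classes_le_union Z Zᶜ fun x => em _).trans (Nat.add_le_add ?_ ?_)
  · refine (Set.ncard_image_le (Set.toFinite _)).trans ?_
    split_ifs with h2
    · subst h2
      refine Set.ncard_le_one_iff_subsingleton.mpr fun a ha b hb => ?_
      rw [h.scalar_subsingleton_two hexp ha, h.scalar_subsingleton_two hexp hb]
    · obtain ⟨w, hw⟩ := exists_ne (1 : Q)
      calc Z.ncard ≤ (({1} : Set A) ∪ {x | ∀ v, φ x v = v⁻¹}).ncard :=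
            Set.ncard_le_ncard (fun x hx => h.scalar_cases hexp hx) (Set.toFinite _)
        _ ≤ _ := Set.ncard_union_le _ _
        _ ≤ 1 + 1 := by
            refine Nat.add_le_add (Set.ncard_singleton _).le ?_
            refine Set.ncard_le_one_iff_subsingleton.mpr fun a ha b hb => h.inj (MulEquiv.ext fun v => ?_)
            rw [ha v, hb v]
  · refine classes_meet_lt _ _ (fun h1 => h1 fun v => ?_) fun x hx => ?_
    · rw [map_one, MulAut.one_apply]; exact Subgroup.mem_zpowers v
    · exact h.centralizer_nonscalar hexp hn hQ (not_forall.mp hx)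

end Cfsg.Agent.Lib.ClassesModFitting
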