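import Mathlib
import Cfsg.Agent.Lib.ClassLowerSolv.Pairing
import Cfsg.Agent.Lib.ClassesModFitting.Count

/-!
# Class numbers of subgroups of the symplectic group on sixteen vectors
-/

set_option autoImplicit false
set_option linter.style.haveILetI false

namespace Cfsg.Agent.Lib.ClassesModFitting

open Nat

/-- The possible cycle types on six points. -/
def shapes6 : List (Multiset ℕ) :=
  [0, {2}, {3}, {4}, {5}, {6}, {2, 2}, {3, 2}, {4, 2}, {3, 3}, {2, 2, 2}]

theorem mem_shapes6 : ∀ m : Multiset ℕ, (∀ i ∈ m, 2 ≤ i) → m.sum ≤ 6 → m ∈ shapes6 := by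
  intro m
  induction m using Multiset.induction_on with
  | empty => intros; simp [shapes6]
  | cons a m ih =>
    intro h hs
    rw [Multiset.sum_cons] at hs
    have key : ∀ m ∈ shapes6, ∀ a < 7, 2 ≤ a → a + m.sum ≤ 6 → (a ::ₘ m) ∈ shapes6 := by decide
    exact key m (ih (fun i hi => h i (Multiset.mem_cons_of_mem hi)) (by omega)) a (by omega)
      (h a (Multiset.mem_cons_self a m)) hs

theorem shapes6_ok : ∀ m ∈ shapes6, Even (m.sum + Multiset.card m) → m ≠ 0 →
    (6 - m.sum)! * m.prod * ∏ n ∈ m.toFinset, (m.count n)! ≤ 9 ∨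
      ((6 - m.sum)! * m.prod * ∏ n ∈ m.toFinset, (m.count n)! ≤ 18 ∧
        ¬ ((∀ i ∈ m, Odd i) ∧ 6 ≤ m.sum + 1 ∧ m.Nodup)) := by
  decide +kernel

theorem card_centralizer_inf_six (g : Equiv.Perm (Fin 6)) (hg : g ≠ 1)
    (hs : Equiv.Perm.sign g = 1) :
    Nat.card (Subgroup.centralizer {g} ⊓ alternatingGroup (Fin 6) : Subgroup _) ≤ 9 := by
  have hm : g.cycleType ∈ shapes6 := mem_shapes6 _ (fun i hi => Equiv.Perm.two_le_of_mem_cycleType hi)
    (by rw [Equiv.Perm.sum_cycleType]; exact (Finset.card_le_univ _).trans (Fintype.card_fin 6).le)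
  have hev : Even (g.cycleType.sum + Multiset.card g.cycleType) := by
    rw [Equiv.Perm.sign_of_cycleType] at hs
    exact (neg_one_pow_eq_one_iff_even (by decide)).mp hs
  have hc := Equiv.Perm.nat_card_centralizer g
  rw [Fintype.card_fin] at hc
  rcases shapes6_ok _ hm hev (fun h => hg (Equiv.Perm.cycleType_eq_zero.mp h)) with h | ⟨h, hno⟩
  · exact (Subgroup.card_le_of_le inf_le_left).trans (hc ▸ h)
  · have hnle : ¬ Subgroup.centralizer {g} ≤ alternatingGroup (Fin 6) := fun hle => hno (by
      obtain ⟨h1, h2, h3⟩ := Equiv.Perm.centralizer_le_alternating_iff.mp hle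
      exact ⟨h1, by simpa using h2, Multiset.nodup_iff_count_le_one.mpr h3⟩)
    set I := (Subgroup.centralizer {g} ⊓ alternatingGroup (Fin 6) : Subgroup _) with hI
    have hlt : I < Subgroup.centralizer {g} := lt_of_le_of_ne inf_le_left
      fun heq => hnle (heq ▸ inf_le_right)
    have h2 : 2 * Nat.card I ≤ Nat.card (Subgroup.centralizer {g}) := by
      obtain ⟨k, hk⟩ := Subgroup.card_dvd_of_le hlt.le
      have hne : Nat.card I ≠ Nat.card (Subgroup.centralizer {g}) := fun h =>
        hlt.ne (Subgroup.eq_of_le_of_card_ge hlt.le h.ge)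
      have hpos : 0 < Nat.card (Subgroup.centralizer {g}) := Nat.card_pos
      rw [hk] at hne hpos ⊢
      have : 2 ≤ k := by
        rcases k with _ | _ | k
        · simp at hpos
        · simp at hne
        · omega
      rw [mul_comm (Nat.card I)]
      exact Nat.mul_le_mul_right _ this
    rw [hc] at h2
    omega

theorem classes_perm_six {A : Type*} [Group A] [Finite A] (π : A →* Equiv.Perm (Fin 6))
    (hπ : Function.Injective π) : Nat.card (ConjClasses A) ≤ 18 := by
  classical
  set L := (Equiv.Perm.sign.comp π).ker with hL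
  have hidx : L.index ≤ 2 := by
    rw [hL, Subgroup.index_ker]
    refine (Subgroup.card_le_card_group _).trans ?_
    rw [Nat.card_eq_fintype_card, Fintype.card_units_int]
  have hL9 : Nat.card (ConjClasses L) ≤ 9 := by
    refine (classes_le_union ({1} : Set L) {1}ᶜ fun x => em _).trans ?_
    have h2 : (ConjClasses.mk '' ({1}ᶜ : Set L)).ncard ≤ 9 - 1 := by
      refine classes_meet_lt _ _ (by simp) fun x hx => ?_
      refine le_trans ?_ (card_centralizer_inf_six (π x)
        (fun h => hx (Subtype.ext (hπ (h.trans (map_one π).symm)))) x.2)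
      refine Nat.card_le_card_of_injective
        (fun c => (⟨π ((c : L) : A), Subgroup.mem_inf.mpr
          ⟨Subgroup.mem_centralizer_singleton_iff.mpr ?_, (c : L).2⟩⟩ :
          (Subgroup.centralizer {π (x : A)} ⊓ alternatingGroup (Fin 6) : Subgroup _)))
        fun a b hab => Subtype.ext (Subtype.ext (hπ (congrArg Subtype.val hab)))
      rw [← map_mul, ← map_mul]
      exact congrArg π (congrArg Subtype.val (Subgroup.mem_centralizer_singleton_iff.mp c.2))
    rw [Set.image_singleton, Set.ncard_singleton]
    omega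
  exact (classes_le_index L).trans (Nat.mul_le_mul hL9 hidx)

open ClassLowerSolv in
/-- Isometries of the symplectic space `(ZMod 2)^4`. -/
theorem classes_sp4_two_le {A : Type*} [Group A] [Finite A]
    (act : A →* Equiv.Perm (Fin 4 → ZMod 2)) (hinj : Function.Injective act)
    (hadd : ∀ g u v, act g (u + v) = act g u + act g v)
    (hform : ∀ g u v, stdForm (act g u) (act g v) = stdForm u v) :
    Nat.card (ConjClasses A) ≤ 18 := by
  classical
  set L := {l : Fin 4 → ZMod 2 // l 0 * l 1 + l 2 * l 3 = 1}
  let img : A → (Fin 4 → ZMod 2) → (Fin 4 → ZMod 2) := fun g l i =>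
    refine4 l (act g⁻¹ (Pi.single i 1))
  have key : ∀ g l v, refine4 (img g l) v = refine4 l (act g⁻¹ v) := by
    intro g l v
    have h := eq_refine4 (fun w => refine4 l (act g⁻¹ w)) fun u w => by
      rw [hadd, refine4_add, hform]
    exact (congrFun h v).symm
  have hmem : ∀ g (l : L), img g l 0 * img g l 1 + img g l 2 * img g l 3 = 1 := fun g l => by
    rw [← refine4_count]
    simp only [key]
    rw [← (refine4_count l.1).mpr l.2]
    exact Finset.card_equiv (act g⁻¹) fun v => by simp
  have hext : ∀ l m, (∀ v, refine4 l v = refine4 m v) → l = m := fun l m h =>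
    _root_.funext fun i => by rw [← refine4_basis l i, h, refine4_basis]
  letI : MulAction A L :=
    { smul := fun g l => ⟨img g l, hmem g l⟩
      one_smul := fun l => Subtype.ext (hext _ _ fun v => by
        show refine4 (img 1 l) v = _
        rw [key, inv_one, map_one, Equiv.Perm.one_apply])
      mul_smul := fun g h l => Subtype.ext (hext _ _ fun v => by
        show refine4 (img (g * h) l) v = refine4 (img g (img h l)) v
        rw [key, key, key, mul_inv_rev, map_mul, Equiv.Perm.mul_apply]) }
  have hfaith : Function.Injective (MulAction.toPermHom A L) := by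
    rw [injective_iff_map_eq_one]
    intro g hg
    apply hinj
    rw [map_one]
    refine Equiv.ext fun v => (minus_forms_span v (act g v) fun l m hl hm => ?_).symm
    have h : ∀ l : L, refine4 l.1 (act g v) = refine4 l.1 v := fun l => by
      have h0 : img g l = l.1 :=
        congrArg Subtype.val (congrArg (fun e : Equiv.Perm L => e l) hg)
      conv_lhs => rw [← h0, key, ← Equiv.Perm.mul_apply, ← map_mul, inv_mul_cancel, map_one]
      rw [Equiv.Perm.one_apply]
    have e1 := h ⟨l, hl⟩
    have e2 := h ⟨m, hm⟩
    simp only at e1 e2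
    rw [e1, e2]
  have e : L ≃ Fin 6 := Fintype.equivFinOfCardEq minus_forms_card
  exact classes_perm_six (e.permCongrHom.toMonoidHom.comp (MulAction.toPermHom A L))
    (e.permCongrHom.injective.comp hfaith)

end Cfsg.Agent.Lib.ClassesModFitting
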