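import Mathlib
import Cfsg.Agent.Lib.ClassesModFitting.Iso
import Cfsg.Agent.Lib.ClassesModFitting.Six

/-!
# Isometry groups of pairings on small elementary abelian 2-groups
-/

set_option autoImplicit false
set_option linter.style.haveILetI false
set_option linter.unusedSectionVars false

namespace Cfsg.Agent.Lib.ClassesModFitting

variable {F : Type*} [Field F] {Q : Type*} [CommGroup Q] [Finite Q] {A : Type*} [Group A]
  {P : Q →* Q →* Fˣ} {φ : A →* MulAut Q}

theorem val_sq (hexp : ∀ v : Q, v ^ 2 = 1) (u v : Q) : P u v = 1 ∨ P u v = -1 := by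
  have h : ((P u v : Fˣ) : F) ^ 2 = 1 := by
    rw [← Units.val_pow_eq_pow_val, ← map_pow, hexp, map_one, Units.val_one]
  rcases sq_eq_one_iff.mp h with h | h
  · exact Or.inl (Units.ext h)
  · exact Or.inr (Units.ext (by rw [Units.val_neg, Units.val_one]; exact h))

theorem val_eq (hexp : ∀ v : Q, v ^ 2 = 1) {a b c d : Q} (h1 : P a b ≠ 1) (h2 : P c d ≠ 1) :
    P a b = P c d :=
  ((val_sq hexp a b).resolve_left h1).trans ((val_sq hexp c d).resolve_left h2).symm

/-- Nondegenerate on a subgroup. -/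
def NdOn (P : Q →* Q →* Fˣ) (T : Subgroup Q) : Prop := ∀ u ∈ T, (∀ v ∈ T, P u v = 1) → u = 1

/-- The part of `T` orthogonal to `u` and `v`. -/
def pairT (P : Q →* Q →* Fˣ) (T : Subgroup Q) (u v : Q) : Subgroup Q := T ⊓ (P u).ker ⊓ (P v).ker

theorem mem_pairT {T : Subgroup Q} {u v t : Q} :
    t ∈ pairT P T u v ↔ t ∈ T ∧ P u t = 1 ∧ P v t = 1 := by
  simp [pairT, Subgroup.mem_inf, MonoidHom.mem_ker, and_assoc]

theorem IsIso.exists_pair (h : IsIso P φ) (hexp : ∀ v : Q, v ^ 2 = 1) {T : Subgroup Q}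
    (hT : NdOn P T) (hne : T ≠ ⊥) :
    ∃ u ∈ T, u ≠ 1 ∧ ∃ v ∈ T, P u v ≠ 1 := by
  obtain ⟨⟨u, hu⟩, hne1⟩ := Subgroup.ne_bot_iff_exists_ne_one.mp hne
  have hu1 : u ≠ 1 := fun h => hne1 (Subtype.ext h)
  refine ⟨u, hu, hu1, ?_⟩
  by_contra hall
  push Not at hall
  exact hu1 (hT u hu hall)

theorem IsIso.pair_decomp (h : IsIso P φ) (hexp : ∀ v : Q, v ^ 2 = 1) {T : Subgroup Q} {u v : Q}
    (hu : u ∈ T) (hv : v ∈ T) (huv : P u v ≠ 1) {t : Q} (ht : t ∈ T) :
    ∃ a b : ℕ, ∃ t' ∈ pairT P T u v, t = u ^ a * v ^ b * t' := by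
  classical
  set a := if P v t = 1 then 0 else 1 with ha
  set b := if P u t = 1 then 0 else 1 with hb
  have hvu : P v u ≠ 1 := fun h1 => huv (h.swap h1)
  refine ⟨a, b, u ^ a * v ^ b * t, mem_pairT.mpr
    ⟨mul_mem (mul_mem (pow_mem hu a) (pow_mem hv b)) ht, ?_, ?_⟩, ?_⟩
  · rw [map_mul, map_mul, map_pow, map_pow, h.alt, one_pow, one_mul, hb]
    split_ifs with h1
    · rw [pow_zero, one_mul, h1]
    · rw [pow_one, val_eq hexp huv h1, ← sq, ← map_pow, hexp, map_one]
  · rw [map_mul, map_mul, map_pow, map_pow, h.alt, one_pow, mul_one, ha]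
    split_ifs with h1
    · rw [pow_zero, one_mul, h1]
    · rw [pow_one, val_eq hexp hvu h1, ← sq, ← map_pow, hexp, map_one]
  · rw [← mul_assoc, ← sq, hexp, one_mul]

theorem IsIso.pairT_nd (h : IsIso P φ) (hexp : ∀ v : Q, v ^ 2 = 1) {T : Subgroup Q} {u v : Q}
    (hT : NdOn P T) (hu : u ∈ T) (hv : v ∈ T) (huv : P u v ≠ 1) : NdOn P (pairT P T u v) := by
  intro w hw hall
  obtain ⟨hwT, hwu, hwv⟩ := mem_pairT.mp hw
  refine hT w hwT fun t ht => ?_
  obtain ⟨a, b, t', ht', rfl⟩ := h.pair_decomp hexp hu hv huv ht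
  rw [map_mul, map_mul, map_pow, map_pow, h.swap hwu, h.swap hwv, hall t' ht', one_pow, one_pow,
    one_mul, one_mul]

variable [hp : Fact (Nat.Prime 2)]

theorem IsIso.pairT_card (h : IsIso P φ) (hexp : ∀ v : Q, v ^ 2 = 1) {T : Subgroup Q} {u v : Q}
    (hu : u ∈ T) (hv : v ∈ T) (huv : P u v ≠ 1) :
    4 * Nat.card (pairT P T u v) ≤ Nat.card T := by
  have h1 : pairT P T u v < T ⊓ (P u).ker := by
    refine lt_of_le_of_ne inf_le_left fun heq => ?_
    have hmem : u ∈ pairT P T u v := by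
      rw [heq]; exact Subgroup.mem_inf.mpr ⟨hu, h.alt u⟩
    exact huv (h.swap (mem_pairT.mp hmem).2.2)
  have h2 : T ⊓ (P u).ker < T := lt_of_le_of_ne inf_le_left fun heq =>
    huv (Subgroup.mem_inf.mp (heq.symm ▸ hv : v ∈ T ⊓ (P u).ker)).2
  have e1 := mul_card_le_of_lt hexp h1
  have e2 := mul_card_le_of_lt hexp h2
  omega

theorem pgroup_step {q : ℕ} [hq : Fact q.Prime] {R R' : Subgroup A} [Finite A] (hR : IsPGroup q R)
    (hle : R' ≤ R) {N : ℕ} (hN : Nat.card R ≤ N * Nat.card R') :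
    Nat.card R ≤ q ^ Nat.log q N * Nat.card R' := by
  obtain ⟨a, ha⟩ := IsPGroup.iff_card.mp hR
  obtain ⟨b, hb⟩ := IsPGroup.iff_card.mp (hR.to_le hle)
  have hba : b ≤ a := by
    have := Subgroup.card_le_of_le hle
    rw [ha, hb] at this
    exact (Nat.pow_le_pow_iff_right hq.out.one_lt).mp this
  rw [ha, hb] at hN ⊢
  obtain ⟨c, rfl⟩ := Nat.exists_eq_add_of_le hba
  rw [pow_add, mul_comm] at hN ⊢
  have hc : q ^ c ≤ N := Nat.le_of_mul_le_mul_right hN (Nat.pow_pos hq.out.pos)
  exact Nat.mul_le_mul_right _ (Nat.pow_le_pow_right hq.out.pos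
    (Nat.le_log_of_pow_le hq.out.one_lt hc))

/-- Exponents bounding 3-subgroups. -/
def vexp : ℕ → ℕ
  | 0 => 0
  | 1 => 0
  | e + 2 => vexp e + Nat.log 3 (2 ^ (e + 2) - 1)

theorem IsIso.card_three_le [Finite A] (h : IsIso P φ) (hexp : ∀ v : Q, v ^ 2 = 1) :
    ∀ (e : ℕ) (T : Subgroup Q) (R : Subgroup A), Nat.card T ≤ 2 ^ e → NdOn P T → IsPGroup 3 R →
      (∀ x ∈ R, ∀ t ∈ T, φ x t ∈ T) → (∀ x ∈ R, (∀ t ∈ T, φ x t = t) → x = 1) →
      Nat.card R ≤ 3 ^ vexp e := by
  classical
  haveI : Fact (Nat.Prime 3) := ⟨Nat.prime_three⟩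
  intro e
  induction e using Nat.strong_induction_on with
  | _ e ih => ?_
  intro T R hcard hT hR hinvT hfaith
  by_cases hbot : T = ⊥
  · haveI : Subsingleton R := ⟨fun a b => Subtype.ext ((hfaith _ a.2 fun t ht => by
      rw [hbot, Subgroup.mem_bot] at ht; rw [ht, map_one]).trans (hfaith _ b.2 fun t ht => by
      rw [hbot, Subgroup.mem_bot] at ht; rw [ht, map_one]).symm)⟩
    rw [Nat.card_of_subsingleton (1 : R)]
    exact Nat.one_le_pow _ _ (by norm_num)
  obtain ⟨u, hu, hu1, v0, hv0, huv0⟩ := h.exists_pair hexp hT hbot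
  have he : 2 ≤ e := by
    have := h.pairT_card hexp hu hv0 huv0
    have hpos : 0 < Nat.card (pairT P T u v0) := Nat.card_pos
    by_contra hlt
    have : 2 ^ e ≤ 2 ^ 1 := Nat.pow_le_pow_right (by norm_num) (by omega)
    omega
  set R' := R ⊓ fixer φ (Subgroup.zpowers u) with hR'
  have hR'le : R' ≤ R := inf_le_left
  have hR'u : ∀ x ∈ R', φ x u = u := fun x hx =>
    mem_fixer_zpowers.mp (Subgroup.mem_inf.mp hx).2
  have hstep : Nat.card R ≤ 3 ^ Nat.log 3 (2 ^ e - 1) * Nat.card R' := by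
    refine pgroup_step hR hR'le ((card_le_ncard_mul φ R u ((T : Set Q) \ {1}) fun x hx =>
      ⟨hinvT x hx u hu, fun h1 => hu1 ((φ x).injective (h1.trans (map_one _).symm))⟩).trans ?_)
    refine Nat.mul_le_mul_right _ ?_
    rw [Set.ncard_sdiff_singleton_of_mem (one_mem T), ← Nat.card_coe_set_eq]
    exact Nat.sub_le_sub_right hcard 1
  -- a partner fixed by `R'`
  let W := {t : Q // t ∈ T ∧ P u t ≠ 1}
  letI : MulAction R' W :=
    { smul := fun x w => ⟨φ (x : A) w.1, hinvT _ (hR'le x.2) _ w.2.1, by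
        intro hc
        exact w.2.2 ((h.inv _ u w.1).symm.trans
          ((congrArg (fun z => P z (φ (x : A) w.1)) (hR'u _ x.2)).trans hc))⟩
      one_smul := fun w => Subtype.ext (by
        show φ ((1 : R') : A) w.1 = w.1
        rw [Subgroup.coe_one, map_one, MulAut.one_apply])
      mul_smul := fun x y w => Subtype.ext (by
        show φ ((x * y : R') : A) w.1 = φ (x : A) (φ (y : A) w.1)
        rw [Subgroup.coe_mul, map_mul, MulAut.mul_apply]) }
  have hW : Nat.card W = Nat.card (T ⊓ (P u).ker : Subgroup Q) := by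
    refine Nat.card_congr
      { toFun := fun w => ⟨v0 * w.1, Subgroup.mem_inf.mpr ⟨mul_mem hv0 w.2.1, MonoidHom.mem_ker.mpr ?_⟩⟩
        invFun := fun t => ⟨v0 * t.1, mul_mem hv0 (Subgroup.mem_inf.mp t.2).1, ?_⟩
        left_inv := fun w => Subtype.ext ?_
        right_inv := fun t => Subtype.ext ?_ }
    · rw [map_mul, val_eq hexp huv0 w.2.2, ← sq, ← map_pow, hexp, map_one]
    · rw [map_mul, MonoidHom.mem_ker.mp (Subgroup.mem_inf.mp t.2).2, mul_one]; exact huv0
    · show v0 * (v0 * w.1) = w.1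
      rw [← mul_assoc, ← sq, hexp, one_mul]
    · show v0 * (v0 * t.1) = t.1
      rw [← mul_assoc, ← sq, hexp, one_mul]
  obtain ⟨⟨v, hv, huv⟩, hfix⟩ :=
    (hR.to_le hR'le).nonempty_fixed_point_of_prime_not_dvd_card W (by
      rw [hW]
      obtain ⟨k, hk⟩ := card_subgroup_pow hexp (T ⊓ (P u).ker)
      rw [hk]
      exact fun hd => absurd ((Nat.prime_dvd_prime_iff_eq Nat.prime_three Nat.prime_two).mp
        (Nat.prime_three.dvd_of_dvd_pow hd)) (by norm_num))
  have hR'v : ∀ x ∈ R', φ x v = v := fun x hx => congrArg Subtype.val (hfix ⟨x, hx⟩)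
  have hrec := ih (e - 2) (by omega) (pairT P T u v) R'
    (by
      have h4 := h.pairT_card hexp hu hv huv
      have h5 : 2 ^ e = 4 * 2 ^ (e - 2) := by
        rw [show (4 : ℕ) = 2 ^ 2 from rfl, ← pow_add]; congr 1; omega
      omega)
    (h.pairT_nd hexp hT hu hv huv) (hR.to_le hR'le)
    (fun x hx t ht => by
      obtain ⟨htT, htu, htv⟩ := mem_pairT.mp ht
      refine mem_pairT.mpr ⟨hinvT x (hR'le hx) t htT, ?_, ?_⟩
      · rw [← hR'u x hx, h.inv, htu]
      · rw [← hR'v x hx, h.inv, htv])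
    (fun x hx hxt => hfaith x (hR'le hx) fun t ht => by
      obtain ⟨a, b, t', ht', rfl⟩ := h.pair_decomp hexp hu hv huv ht
      rw [map_mul, map_mul, map_pow, map_pow, hR'u x hx, hR'v x hx, hxt t' ht'])
  refine hstep.trans ((Nat.mul_le_mul_left _ hrec).trans_eq ?_)
  obtain ⟨f, rfl⟩ := Nat.exists_eq_add_of_le' he
  rw [Nat.add_sub_cancel, vexp, ← pow_add, add_comm]

/-- Exponents bounding 2-subgroups. -/
def uexp (n : ℕ) : ℕ → ℕ
  | 0 => 0
  | e + 1 => uexp n e + min (e + 1) (2 * n - (e + 1))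

theorem uexp_mono (n : ℕ) : Monotone (uexp n) := monotone_nat_of_le_succ fun _ => by
  rw [uexp]; omega

theorem IsIso.card_two_le [Finite A] (h : IsIso P φ) (hexp : ∀ v : Q, v ^ 2 = 1) {n : ℕ}
    (hQ : Nat.card Q = 2 ^ (2 * n)) :
    ∀ (e : ℕ) (S : Subgroup Q) (R : Subgroup A), Nat.card (orth P S) = 2 ^ e → IsPGroup 2 R →
      R ≤ fixer φ S → Nat.card R ≤ 2 ^ uexp n e := by
  intro e
  induction e using Nat.strong_induction_on with
  | _ e ih => ?_
  intro S R hS hR hRS
  rcases e with _ | e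
  · refine (Subgroup.card_le_of_le hRS).trans ((h.card_fixer_le hexp 0 S hS.le).trans ?_)
    simp [tri, uexp]
  have hSQ := h.card_mul_card_orth S
  obtain ⟨j, hj⟩ := card_subgroup_pow hexp S
  rw [hS, hQ, hj, ← pow_add] at hSQ
  have hjn : j = 2 * n - (e + 1) := by
    have := Nat.pow_right_injective (le_refl 2) hSQ
    omega
  -- the action on `Q ⧸ S`
  have hmap : ∀ x : R, Subgroup.map ((φ (x : A)) : Q ≃* Q).toMonoidHom S = S := fun x => by
    refine le_antisymm ?_ fun s hs => ⟨s, hs, hRS x.2 s hs⟩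
    rintro _ ⟨s, hs, rfl⟩
    exact (hRS x.2 s hs).symm ▸ hs
  letI : MulAction R (Q ⧸ S) :=
    { smul := fun x q => QuotientGroup.congr S S (φ (x : A)) (hmap x) q
      one_smul := fun q => by
        obtain ⟨w, rfl⟩ := QuotientGroup.mk_surjective q
        show QuotientGroup.mk (φ ((1 : R) : A) w) = QuotientGroup.mk w
        rw [Subgroup.coe_one, map_one, MulAut.one_apply]
      mul_smul := fun x y q => by
        obtain ⟨w, rfl⟩ := QuotientGroup.mk_surjective q
        show QuotientGroup.mk (φ ((x * y : R) : A) w) = QuotientGroup.mk (φ (x : A) (φ (y : A) w))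
        rw [Subgroup.coe_mul, map_mul, MulAut.mul_apply] }
  have hone : (1 : Q ⧸ S) ∈ MulAction.fixedPoints R (Q ⧸ S) := fun x => by
    show QuotientGroup.mk (φ (x : A) 1) = (1 : Q ⧸ S)
    rw [map_one, QuotientGroup.mk_one]
  have hdvd : 2 ∣ Nat.card (Q ⧸ S) := by
    refine ⟨2 ^ e, ?_⟩
    have h1 := Subgroup.card_eq_card_quotient_mul_card_subgroup S
    rw [hQ, hj, ← hSQ, pow_add, mul_comm (2 ^ j)] at h1
    rw [← pow_succ']
    exact (Nat.eq_of_mul_eq_mul_right (Nat.pow_pos two_pos) h1).symm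
  obtain ⟨q, hq, hq1⟩ := hR.exists_fixed_point_of_prime_dvd_card_of_fixed_point (Q ⧸ S) hdvd hone
  obtain ⟨u, rfl⟩ := QuotientGroup.mk_surjective q
  have hu : u ∉ S := fun hu => hq1 ((QuotientGroup.eq_one_iff u).mpr hu).symm
  set R' := R ⊓ fixer φ (Subgroup.zpowers u)
  set S' := S ⊔ Subgroup.zpowers u with hS'
  have hlt : S < S' := left_lt_sup.mpr fun hle => hu (hle (Subgroup.mem_zpowers u))
  obtain ⟨e', he'⟩ := card_subgroup_pow hexp (orth P S')
  have he'le : e' ≤ e := by
    have h1 := h.card_mul_card_orth S'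
    have h2 := Nat.mul_le_mul_right (Nat.card (orth P S')) (mul_card_le_of_lt hexp hlt)
    rw [h1, he', hQ, hj, ← hSQ, ← pow_succ', ← pow_add] at h2
    have h3 := (Nat.pow_le_pow_iff_right (le_refl 2)).mp h2
    have h4 : Nat.card S' * Nat.card (orth P S') = 2 ^ (j + (e + 1)) := by rw [h1, hQ, hSQ]
    obtain ⟨j', hj'⟩ := card_subgroup_pow hexp S'
    have h5 := mul_card_le_of_lt hexp hlt
    rw [hj, hj', ← pow_succ'] at h5
    rw [hj', he', ← pow_add] at h4
    have h6 := Nat.pow_right_injective (le_refl 2) h4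
    have h7 := (Nat.pow_le_pow_iff_right (le_refl 2)).mp h5
    omega
  have hrec := ih e' (by omega) S' R' he' (hR.to_le inf_le_left)
    fun x hx => mem_fixer_sup (hRS (Subgroup.mem_inf.mp hx).1) (Subgroup.mem_inf.mp hx).2
  set N := 2 ^ min (e + 1) (2 * n - (e + 1))
  have hN : ((fun w => u * w) '' ((S ⊓ orth P S : Subgroup Q) : Set Q)).ncard ≤ N := by
    refine (Set.ncard_image_le (Set.toFinite _)).trans ?_
    rw [← Nat.card_coe_set_eq]
    rcases le_total (e + 1) (2 * n - (e + 1)) with hm | hm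
    · simp only [N, min_eq_left hm]
      exact (Subgroup.card_le_of_le (inf_le_right : S ⊓ orth P S ≤ orth P S)).trans hS.le
    · simp only [N, min_eq_right hm]
      exact (Subgroup.card_le_of_le (inf_le_left : S ⊓ orth P S ≤ S)).trans (hj.trans (by rw [hjn])).le
  refine (card_le_ncard_mul φ R u ((fun w => u * w) '' ((S ⊓ orth P S : Subgroup Q) : Set Q))
    fun x hx => ⟨u⁻¹ * φ x u, Subgroup.mem_inf.mpr ⟨?_, h.orth_invariant (hRS hx) u⟩,
      mul_inv_cancel_left _ _⟩).trans ?_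
  · exact QuotientGroup.eq.mp (hq ⟨x, hx⟩).symm
  · refine (Nat.mul_le_mul hN (hrec.trans (Nat.pow_le_pow_right two_pos (uexp_mono n he'le)))).trans_eq ?_
    simp only [N]
    rw [uexp, pow_add, mul_comm]

section Cyclic

/-- Fixed by the fourth or third power, or one of two relations. -/
def ShortSpan (f : Q ≃* Q) (v : Q) : Prop :=
  Function.IsPeriodicPt f 4 v ∨ Function.IsPeriodicPt f 3 v ∨
    f (f (f v)) = v * f v ∨ f (f (f v)) = v * f (f v)

theorem mul_self_exp (hexp : ∀ v : Q, v ^ 2 = 1) (a : Q) : a * a = 1 := by rw [← sq]; exact hexp a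

theorem mul_self_left (hexp : ∀ v : Q, v ^ 2 = 1) (a b : Q) : a * (a * b) = b := by
  rw [← mul_assoc, mul_self_exp hexp, one_mul]

theorem eq_mul_of_mul (hexp : ∀ v : Q, v ^ 2 = 1) {a b c : Q} (h : a * b = c) : a = c * b := by
  rw [← h, mul_assoc, mul_self_exp hexp, mul_one]

theorem periodic_mul {f : Q ≃* Q} {m : ℕ} {a b : Q} (ha : Function.IsPeriodicPt f m a)
    (hb : Function.IsPeriodicPt f m b) : Function.IsPeriodicPt f m (a * b) := by
  show f^[m] (a * b) = a * b
  rw [iterate_map_mul]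
  rw [ha.eq, hb.eq]

theorem periodic_cancel (hexp : ∀ v : Q, v ^ 2 = 1) {f : Q ≃* Q} {m : ℕ} {a b : Q}
    (hab : Function.IsPeriodicPt f m (a * b)) (ha : Function.IsPeriodicPt f m a) :
    Function.IsPeriodicPt f m b := by
  have := periodic_mul ha hab
  rwa [← mul_assoc, mul_self_exp hexp, one_mul] at this

theorem fixed_of_periods {f : Q ≃* Q} {a b : ℕ} {v : Q} (ha : Function.IsPeriodicPt f a v)
    (hb : Function.IsPeriodicPt f b v) (hg : Nat.gcd a b = 1) : f v = v := by
  have := ha.gcd hb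
  rwa [hg] at this

theorem periodic_seven_one (hexp : ∀ v : Q, v ^ 2 = 1) {f : Q ≃* Q} {v : Q}
    (h : f (f (f v)) = v * f v) : Function.IsPeriodicPt f 7 v := by
  show f (f (f (f (f (f (f v)))))) = v
  simp only [h, map_mul]
  simp [mul_comm, mul_left_comm, mul_assoc, mul_self_exp hexp]

theorem periodic_seven_two (hexp : ∀ v : Q, v ^ 2 = 1) {f : Q ≃* Q} {v : Q}
    (h : f (f (f v)) = v * f (f v)) : Function.IsPeriodicPt f 7 v := by
  show f (f (f (f (f (f (f v)))))) = v
  simp only [h, map_mul]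
  simp [mul_comm, mul_left_comm, mul_assoc, mul_self_exp hexp]

theorem eq_one_of_relations (hexp : ∀ v : Q, v ^ 2 = 1) {f : Q ≃* Q} {v : Q}
    (h1 : f (f (f v)) = v * f v) (h2 : f (f (f v)) = v * f (f v)) : v = 1 := by
  have h3 : f v = f (f v) := mul_left_cancel (h1.symm.trans h2)
  have h4 : v = f v := f.injective h3
  rw [← h4, ← h4, ← h4, mul_self_exp hexp] at h1
  exact h1

theorem eq_one_of_relation_fixed (hexp : ∀ v : Q, v ^ 2 = 1) {f : Q ≃* Q} {v w : Q}
    (hw : f w = w) (h1 : f (f (f v)) = v * f v)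
    (h2 : f (f (f (v * w))) = v * w * f (f (v * w))) : v = 1 := by
  simp only [map_mul, hw, h1] at h2
  have h5 : w = f v * f (f v) := by
    have h6 : v * f v * w = v * f (f v) := by
      rw [h2]
      simp [mul_comm, mul_left_comm, mul_assoc, mul_self_exp hexp, mul_self_left hexp]
    rw [mul_assoc] at h6
    have h7 := mul_left_cancel h6
    rw [mul_comm] at h7
    rw [eq_mul_of_mul hexp h7, mul_comm]
  rw [h5, map_mul, h1] at hw
  have h8 : f (f v) * v * f v = f (f v) * f v := by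
    rw [mul_assoc, hw, mul_comm]
  rw [mul_assoc] at h8
  have h9 := mul_left_cancel h8
  exact mul_eq_right.mp h9

theorem IsIso.no_short_seven (h : IsIso P φ) (hexp : ∀ v : Q, v ^ 2 = 1) (f : Q ≃* Q)
    (hf : ∀ a b, P (f a) (f b) = P a b) (hall : ∀ v, ShortSpan f v) {v : Q}
    (h1 : f (f (f v)) = v * f v) : v = 1 := by
  by_contra hv
  have hK7 := periodic_seven_one hexp h1
  have hnofix : ¬ f v = v := fun hfix => hv (by
    rw [hfix, hfix, hfix, mul_self_exp hexp] at h1
    exact h1)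
  have hno12 : ¬ Function.IsPeriodicPt f 12 v := fun h12 =>
    hnofix (fixed_of_periods h12 hK7 (by norm_num))
  have hall1 : ∀ w, f (f (f w)) = w * f w := by
    intro w
    by_contra hw
    rcases hall (v * w) with hs | hs | hs | hs
    · -- period four
      rcases hall w with hr | hr | hr | hr
      · have h3 := periodic_cancel hexp (mul_comm v w ▸ hs) hr
        exact hno12 (h3.trans_dvd (by norm_num))
      · have h3 := periodic_cancel hexp (mul_comm v w ▸ hs.trans_dvd (show 4 ∣ 12 by norm_num))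
          (hr.trans_dvd (by norm_num))
        exact hno12 h3
      · exact hw hr
      · have hfix : f (v * w) = v * w := fixed_of_periods hs
          (periodic_mul hK7 (periodic_seven_two hexp hr)) (by norm_num)
        have hw2 : v * (v * w) = w := by rw [← mul_assoc, mul_self_exp hexp, one_mul]
        exact hv (eq_one_of_relation_fixed hexp hfix h1 (by rw [hw2]; exact hr))
    · rcases hall w with hr | hr | hr | hr
      · have h3 := periodic_cancel hexp (mul_comm v w ▸ hs.trans_dvd (show 3 ∣ 12 by norm_num))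
          (hr.trans_dvd (by norm_num))
        exact hno12 h3
      · have h3 := periodic_cancel hexp (mul_comm v w ▸ hs) hr
        exact hno12 (h3.trans_dvd (by norm_num))
      · exact hw hr
      · have hfix : f (v * w) = v * w := fixed_of_periods hs
          (periodic_mul hK7 (periodic_seven_two hexp hr)) (by norm_num)
        have hw2 : v * (v * w) = w := by rw [← mul_assoc, mul_self_exp hexp, one_mul]
        exact hv (eq_one_of_relation_fixed hexp hfix h1 (by rw [hw2]; exact hr))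
    · simp only [map_mul, h1] at hs
      refine hw (mul_left_cancel (a := v * f v) (hs.trans ?_))
      simp [mul_comm, mul_left_comm, mul_assoc]
    · have hw7 := periodic_cancel hexp (periodic_seven_two hexp hs) hK7
      rcases hall w with hr | hr | hr | hr
      · exact hv (eq_one_of_relation_fixed hexp (fixed_of_periods hr hw7 (by norm_num)) h1 hs)
      · exact hv (eq_one_of_relation_fixed hexp (fixed_of_periods hr hw7 (by norm_num)) h1 hs)
      · exact hw hr
      · simp only [map_mul, hr] at hs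
        refine hv (eq_one_of_relations hexp h1 ?_)
        refine mul_right_cancel (b := w * f (f w)) (hs.trans ?_)
        simp [mul_comm, mul_left_comm, mul_assoc]
  refine hv (eq_one_of_relations hexp h1 ?_)
  refine (mul_inv_eq_one.mp (h.nd (f (f (f v)) * (v * f (f v))⁻¹) fun a => h.swap ?_))
  have e1 : P a v = P a (f (f (f v))) * P (f a) (f (f (f v))) := by
    rw [← MonoidHom.mul_apply, ← map_mul, ← hall1 a, hf, hf, hf]
  rw [hf] at e1
  rw [map_mul, map_inv, map_mul, e1, mul_assoc, ← map_mul, mul_self_exp hexp, map_one, mul_one,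
    mul_inv_cancel]

theorem shortSpan_symm (hexp : ∀ v : Q, v ^ 2 = 1) {f : Q ≃* Q} {v : Q} (hs : ShortSpan f v) :
    ShortSpan f.symm v := by
  rcases hs with hs | hs | hs | hs
  · left
    conv_lhs => skip
    show f.symm^[4] v = v
    conv_lhs => rw [← hs.eq]
    exact (Function.LeftInverse.iterate f.symm_apply_apply 4) v
  · refine Or.inr (Or.inl ?_)
    show f.symm^[3] v = v
    conv_lhs => rw [← hs.eq]
    exact (Function.LeftInverse.iterate f.symm_apply_apply 3) v
  · refine Or.inr (Or.inr (Or.inr ?_))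
    have h2 := congrArg (fun z => f.symm (f.symm (f.symm z))) hs
    simp only [MulEquiv.symm_apply_apply, map_mul] at h2
    exact eq_mul_of_mul hexp h2.symm
  · refine Or.inr (Or.inr (Or.inl ?_))
    have h2 := congrArg (fun z => f.symm (f.symm (f.symm z))) hs
    simp only [MulEquiv.symm_apply_apply, map_mul] at h2
    exact eq_mul_of_mul hexp h2.symm

theorem IsIso.short_dichotomy (h : IsIso P φ) (hexp : ∀ v : Q, v ^ 2 = 1) {x : A}
    (hall : ∀ v, ShortSpan (φ x) v) : x ^ 4 = 1 ∨ x ^ 3 = 1 := by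
  have hno1 : ∀ v, φ x (φ x (φ x v)) = v * φ x v → v = 1 := fun v =>
    h.no_short_seven hexp (φ x) (h.inv x) hall
  have hno2 : ∀ v, φ x (φ x (φ x v)) = v * φ x (φ x v) → v = 1 := fun v hv => by
    refine h.no_short_seven hexp (φ x).symm (fun a b => ?_) (fun w => shortSpan_symm hexp (hall w)) ?_
    · conv_rhs => rw [← (φ x).apply_symm_apply a, ← (φ x).apply_symm_apply b, h.inv]
    · have h2 := congrArg (fun z => (φ x).symm ((φ x).symm ((φ x).symm z))) hv
      simp only [MulEquiv.symm_apply_apply, map_mul] at h2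
      exact eq_mul_of_mul hexp h2.symm
  have hcase : ∀ v, Function.IsPeriodicPt (φ x) 4 v ∨ Function.IsPeriodicPt (φ x) 3 v := by
    intro v
    rcases hall v with hs | hs | hs | hs
    · exact Or.inl hs
    · exact Or.inr hs
    · left; rw [hno1 v hs]; exact iterate_map_one (φ x) 4
    · left; rw [hno2 v hs]; exact iterate_map_one (φ x) 4
  have hiter : ∀ (m : ℕ) (v : Q), φ (x ^ m) v = (φ x)^[m] v := by
    intro m v
    induction m with
    | zero => rw [pow_zero, map_one, MulAut.one_apply, Function.iterate_zero, id_eq]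
    | succ m ih => rw [pow_succ', map_mul, MulAut.mul_apply, ih, Function.iterate_succ_apply']
  by_contra hc
  push Not at hc
  obtain ⟨h4, h3⟩ := hc
  obtain ⟨a, ha⟩ : ∃ a, ¬ Function.IsPeriodicPt (φ x) 4 a := by
    by_contra hcon
    push Not at hcon
    exact h4 (h.ext fun v => (hiter 4 v).trans (hcon v))
  obtain ⟨b, hb⟩ : ∃ b, ¬ Function.IsPeriodicPt (φ x) 3 b := by
    by_contra hcon
    push Not at hcon
    exact h3 (h.ext fun v => (hiter 3 v).trans (hcon v))
  rcases hcase (a * b) with hs | hs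
  · exact ha (periodic_cancel hexp (mul_comm a b ▸ hs) ((hcase b).resolve_right hb))
  · exact hb (periodic_cancel hexp hs ((hcase a).resolve_left ha))

theorem mem_sup_zpowers (hexp : ∀ v : Q, v ^ 2 = 1) {S : Subgroup Q} {w z : Q}
    (hz : z ∈ S ⊔ Subgroup.zpowers w) : z ∈ S ∨ z * w ∈ S := by
  obtain ⟨s, hs, t, ht, rfl⟩ := Subgroup.mem_sup.mp hz
  obtain ⟨k, rfl⟩ := Subgroup.mem_zpowers_iff.mp ht
  rcases Int.even_or_odd' k with ⟨i, rfl | rfl⟩
  · left; rwa [zpow_mul, zpow_ofNat, hexp, one_zpow, mul_one]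
  · right
    rwa [zpow_add, zpow_mul, zpow_ofNat, hexp, one_zpow, one_mul, zpow_one, mul_assoc,
      mul_self_exp hexp, mul_one]

theorem mem_zpowers_two (hexp : ∀ v : Q, v ^ 2 = 1) {v z : Q}
    (hz : z ∈ Subgroup.zpowers v) : z = 1 ∨ z = v := by
  rcases mem_sup_zpowers hexp (S := ⊥) (w := v) (by simpa using hz) with h | h
  · exact Or.inl (Subgroup.mem_bot.mp h)
  · exact Or.inr (by rw [eq_mul_of_mul hexp (Subgroup.mem_bot.mp h), one_mul])

theorem sixteen_le_span (hexp : ∀ v : Q, v ^ 2 = 1) {f : Q ≃* Q} {v : Q} (hv : ¬ ShortSpan f v) :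
    16 ≤ Nat.card (Subgroup.zpowers v ⊔ Subgroup.zpowers (f v) ⊔ Subgroup.zpowers (f (f v)) ⊔
      Subgroup.zpowers (f (f (f v))) : Subgroup Q) := by
  set w := f v with hw
  set z := f w with hz
  set y := f z with hy
  have hP4 : ¬ f y = v := fun h => hv (Or.inl h)
  have hP3 : y ≠ v := fun h => hv (Or.inr (Or.inl h))
  have hR1 : y ≠ v * w := fun h => hv (Or.inr (Or.inr (Or.inl h)))
  have hR2 : y ≠ v * z := fun h => hv (Or.inr (Or.inr (Or.inr h)))
  have hv1 : v ≠ 1 := fun h => hP3 (by rw [hy, hz, hw, h, map_one, map_one, map_one])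
  have hwv : w ≠ v := fun h => hP3 (by rw [hy, hz, h, ← hw, h, ← hw, h])
  have hw1 : w ≠ 1 := fun h => hv1 (f.injective (h.trans (map_one f).symm))
  have hz1 : z ≠ 1 := fun h => hw1 (f.injective (h.trans (map_one f).symm))
  have hy1 : y ≠ 1 := fun h => hz1 (f.injective (h.trans (map_one f).symm))
  have hzw : z ≠ w := fun h => hwv (f.injective h)
  have hyz : y ≠ z := fun h => hzw (f.injective h)
  have hzv : z ≠ v := fun h => hP4 (by rw [hy, h, ← hw, ← hz, h])
  have hzvw : z ≠ v * w := fun h => hP3 (by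
    rw [hy, h, map_mul, ← hw, ← hz, h, mul_comm v w, ← mul_assoc, mul_self_exp hexp, one_mul])
  have hyw : y ≠ w := fun h => hzv (f.injective h)
  have l1 : Subgroup.zpowers v < Subgroup.zpowers v ⊔ Subgroup.zpowers w := by
    refine left_lt_sup.mpr fun hle => ?_
    rcases mem_zpowers_two hexp (hle (Subgroup.mem_zpowers w)) with h | h
    · exact hw1 h
    · exact hwv h
  have l2 : Subgroup.zpowers v ⊔ Subgroup.zpowers w <
      Subgroup.zpowers v ⊔ Subgroup.zpowers w ⊔ Subgroup.zpowers z := by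
    refine left_lt_sup.mpr fun hle => ?_
    rcases mem_sup_zpowers hexp (hle (Subgroup.mem_zpowers z)) with h | h <;>
      rcases mem_zpowers_two hexp h with h | h
    · exact hz1 h
    · exact hzv h
    · exact hzw (by rw [eq_mul_of_mul hexp h, one_mul])
    · exact hzvw (eq_mul_of_mul hexp h)
  have l3 : Subgroup.zpowers v ⊔ Subgroup.zpowers w ⊔ Subgroup.zpowers z <
      Subgroup.zpowers v ⊔ Subgroup.zpowers w ⊔ Subgroup.zpowers z ⊔ Subgroup.zpowers y := by
    refine left_lt_sup.mpr fun hle => ?_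
    rcases mem_sup_zpowers hexp (hle (Subgroup.mem_zpowers y)) with h | h <;>
      rcases mem_sup_zpowers hexp h with h | h <;>
      rcases mem_zpowers_two hexp h with h | h
    · exact hy1 h
    · exact hP3 h
    · exact hyw (by rw [eq_mul_of_mul hexp h, one_mul])
    · exact hR1 (eq_mul_of_mul hexp h)
    · exact hyz (by rw [eq_mul_of_mul hexp h, one_mul])
    · exact hR2 (eq_mul_of_mul hexp h)
    · have h' : y = w * z := eq_mul_of_mul hexp (by rw [eq_mul_of_mul hexp h, one_mul])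
      exact hzvw (f.injective (by rw [← hy, h', map_mul, ← hw, ← hz]))
    · have h' : y = v * w * z := eq_mul_of_mul hexp (eq_mul_of_mul hexp h)
      refine hP4 ?_
      rw [h', map_mul, map_mul, ← hw, ← hz, ← hy, h']
      simp [mul_comm, mul_left_comm, mul_assoc, mul_self_exp hexp]
  have e1 := mul_card_le_of_lt hexp l1
  have e2 := mul_card_le_of_lt hexp l2
  have e3 := mul_card_le_of_lt hexp l3
  rw [card_zpowers_eq hexp hv1] at e1
  omega

end Cyclic

theorem IsIso.classes_le_two [Finite A] (h : IsIso P φ) (hexp : ∀ v : Q, v ^ 2 = 1) {n : ℕ}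
    (hn : 2 ≤ n) (hQ : Nat.card Q = 2 ^ (2 * n)) :
    Nat.card (ConjClasses A) ≤
      2 ^ uexp n (2 * n) + 3 ^ vexp (2 * n) + ((2 ^ (2 * n) - 1) * 2 ^ tri (2 * n - 4) - 1) := by
  haveI : Fact (Nat.Prime 3) := ⟨Nat.prime_three⟩
  set S4 : Set A := {x | x ^ 4 = 1}
  set S3 : Set A := {x | x ^ 3 = 1}
  have hu := classes_le_union (S4 ∪ S3) (S4 ∪ S3)ᶜ fun x => em _
  rw [Set.image_union] at hu
  have hu2 := Set.ncard_union_le (ConjClasses.mk '' S4) (ConjClasses.mk '' S3)
  have b4 : (ConjClasses.mk '' S4).ncard ≤ 2 ^ uexp n (2 * n) := by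
    refine classes_pElements_le (p := 2) S4 (fun x hx => ?_) fun R hR => ?_
    · obtain ⟨i, -, hi⟩ := (Nat.dvd_prime_pow Nat.prime_two).mp
        (show orderOf x ∣ 2 ^ 2 from orderOf_dvd_of_pow_eq_one hx)
      exact IsPGroup.iff_card.mpr ⟨i, by rw [Nat.card_zpowers, hi]⟩
    · refine h.card_two_le hexp hQ (2 * n) ⊥ R ?_ hR fun x _ s hs => ?_
      · have := h.card_mul_card_orth (⊥ : Subgroup Q)
        rwa [Subgroup.card_bot, one_mul, hQ] at this
      · rw [Subgroup.mem_bot.mp hs, map_one]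
  have b3 : (ConjClasses.mk '' S3).ncard ≤ 3 ^ vexp (2 * n) := by
    refine classes_pElements_le (p := 3) S3 (fun x hx => ?_) fun R hR => ?_
    · obtain ⟨i, -, hi⟩ := (Nat.dvd_prime_pow Nat.prime_three).mp
        (show orderOf x ∣ 3 ^ 1 from by rw [pow_one]; exact orderOf_dvd_of_pow_eq_one hx)
      exact IsPGroup.iff_card.mpr ⟨i, by rw [Nat.card_zpowers, hi]⟩
    · refine h.card_three_le hexp (2 * n) ⊤ R ?_ (fun u _ hall => h.nd u fun v => hall v trivial) hR
        (fun _ _ _ _ => trivial) fun x _ hx => h.ext fun v => hx v trivial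
      rw [Subgroup.card_top, hQ]
  have bb : (ConjClasses.mk '' (S4 ∪ S3)ᶜ).ncard ≤ (2 ^ (2 * n) - 1) * 2 ^ tri (2 * n - 4) - 1 := by
    refine classes_meet_lt _ _ (fun h1 => h1 (Or.inl (one_pow 4))) fun x hx => ?_
    obtain ⟨v, hv⟩ : ∃ v, ¬ ShortSpan (φ x) v := by
      by_contra hcon
      push Not at hcon
      exact hx (h.short_dichotomy hexp hcon)
    have hv1 : v ≠ 1 := fun hv1 => hv (by
      left; rw [hv1]; exact iterate_map_one (φ x) 4)
    refine h.card_centralizer_le hexp hQ (by omega) x v hv1 _ (sixteen_le_span hexp hv)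
      fun c hc hcv => ?_
    have hcomm : ∀ a, φ c a = a → φ c (φ x a) = φ x a := fun a ha => by
      rw [← MulAut.mul_apply, ← map_mul, hc, map_mul, MulAut.mul_apply, ha]
    refine mem_fixer_sup (mem_fixer_sup (mem_fixer_sup (mem_fixer_zpowers.mpr hcv)
      (mem_fixer_zpowers.mpr ?_)) (mem_fixer_zpowers.mpr ?_)) (mem_fixer_zpowers.mpr ?_)
    · exact hcomm v hcv
    · exact hcomm _ (hcomm v hcv)
    · exact hcomm _ (hcomm _ (hcomm v hcv))
  omega

open ClassLowerSolv in
theorem IsIso.classes_le_sixteen [Finite A] (h : IsIso P φ) (hexp : ∀ v : Q, v ^ 2 = 1)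
    (hQ : Nat.card Q = 16) : Nat.card (ConjClasses A) ≤ 18 := by
  classical
  have htop : NdOn P (⊤ : Subgroup Q) := fun u _ hall => h.nd u fun v => hall v trivial
  obtain ⟨a, -, -, b, -, hab⟩ := h.exists_pair hexp htop fun h0 => by
    have := congrArg (fun S : Subgroup Q => Nat.card S) h0
    simp only [Subgroup.card_top, Subgroup.card_bot, hQ] at this
    omega
  set T' := pairT P (⊤ : Subgroup Q) a b with hT'
  have hT'nd : NdOn P T' := h.pairT_nd hexp htop trivial trivial hab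
  have hT'ne : T' ≠ ⊥ := by
    intro h0
    have hsub : ∀ t : Q, t ∈ ({1, a, b, a * b} : Set Q) := by
      intro t
      obtain ⟨i, j, t', ht', rfl⟩ := h.pair_decomp hexp (T := ⊤) (u := a) (v := b) trivial trivial hab
        (t := t) trivial
      rw [← hT', h0, Subgroup.mem_bot] at ht'
      subst ht'
      rcases Nat.even_or_odd' i with ⟨i, rfl | rfl⟩ <;>
        rcases Nat.even_or_odd' j with ⟨j, rfl | rfl⟩ <;>
        simp [pow_succ, pow_mul, hexp]
    have h5 := Set.ncard_le_ncard (s := Set.univ) (fun t _ => hsub t) (Set.toFinite _)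
    rw [Set.ncard_univ, hQ] at h5
    have h6 := Set.ncard_insert_le (1 : Q) {a, b, a * b}
    have h7 := Set.ncard_insert_le a {b, a * b}
    have h8 := Set.ncard_insert_le b {a * b}
    rw [Set.ncard_singleton] at h8
    omega
  obtain ⟨c, hc, -, d, hd, hcd⟩ := h.exists_pair hexp hT'nd hT'ne
  have hT''bot : pairT P T' c d = ⊥ := by
    have e1 := h.pairT_card hexp (Subgroup.mem_top a) (Subgroup.mem_top b) hab
    have e2 := h.pairT_card hexp hc hd hcd
    rw [← hT', Subgroup.card_top, hQ] at e1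
    exact Subgroup.eq_bot_of_card_le _ (by omega)
  set ζ := P a b with hζd
  have hζ : orderOf ζ = 2 := orderOf_eq_prime (by rw [hζd, ← map_pow, hexp, map_one]) hab
  have hζsq : ζ ^ 2 = 1 := by rw [← hζ]; exact pow_orderOf_eq_one ζ
  have hba : P b a = ζ := val_eq hexp (fun h1 => hab (h.swap h1)) hab
  have hcd' : P c d = ζ := val_eq hexp hcd hab
  have hdc : P d c = ζ := val_eq hexp (fun h1 => hcd (h.swap h1)) hab
  obtain ⟨-, hac, hbc⟩ := mem_pairT.mp hc
  obtain ⟨-, had, hbd⟩ := mem_pairT.mp hd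
  have hca := h.swap hac
  have hcb := h.swap hbc
  have hda := h.swap had
  have hdb := h.swap hbd
  let e : (Fin 4 → ZMod 2) → Q := fun v =>
    a ^ (v 0).val * b ^ (v 1).val * c ^ (v 2).val * d ^ (v 3).val
  have hpw : ∀ q : Q, ∀ s t : ZMod 2, q ^ (s + t).val = q ^ s.val * q ^ t.val := fun q s t => by
    rw [← pow_add, ZMod.val_add, ← pow_eq_pow_mod _ (hexp q)]
  have headd : ∀ u v, e (u + v) = e u * e v := fun u v => by
    simp only [e, Pi.add_apply, hpw]
    simp only [mul_comm, mul_left_comm, mul_assoc]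
  have hesurj : Function.Surjective e := by
    intro t
    obtain ⟨i, j, t', ht', rfl⟩ := h.pair_decomp hexp (T := ⊤) (u := a) (v := b) trivial trivial hab
      (t := t) trivial
    obtain ⟨k, l, t'', ht'', rfl⟩ := h.pair_decomp hexp hc hd hcd ht'
    rw [hT''bot, Subgroup.mem_bot] at ht''
    subst ht''
    refine ⟨![(i : ZMod 2), j, k, l], ?_⟩
    show a ^ _ * b ^ _ * c ^ _ * d ^ _ = _
    simp only [Matrix.cons_val_zero, Matrix.cons_val_one, Matrix.cons_val, ZMod.val_natCast]
    rw [← pow_eq_pow_mod i (hexp a), ← pow_eq_pow_mod j (hexp b), ← pow_eq_pow_mod k (hexp c),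
      ← pow_eq_pow_mod l (hexp d)]
    simp [mul_assoc]
  have hebij : Function.Bijective e :=
    (Nat.bijective_iff_surjective_and_card e).mpr ⟨hesurj, by
      rw [hQ, Nat.card_fun, Nat.card_zmod, Nat.card_fin]; norm_num⟩
  have heP : ∀ u v, P (e u) (e v) = ζ ^ (stdForm u v).val := by
    intro u v
    have hz : ∀ s t : ZMod 2, ζ ^ (s + t).val = ζ ^ s.val * ζ ^ t.val := fun s t => by
      rw [← pow_add, ZMod.val_add, ← pow_eq_pow_mod _ hζsq]
    have hm : ∀ s t : ZMod 2, ζ ^ (s * t).val = (ζ ^ s.val) ^ t.val := fun s t => by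
      rw [← pow_mul, ZMod.val_mul, ← pow_eq_pow_mod _ hζsq]
    simp only [e, stdForm, hz, hm, map_mul, map_pow, MonoidHom.mul_apply, MonoidHom.pow_apply,
      h.alt, ← hζd, hba, hca, hda, hac, hbc, had, hbd, hcb, hdb, hcd', hdc, one_pow, mul_one,
      one_mul]
    simp only [← pow_mul, mul_comm, mul_left_comm, mul_assoc]
  let E := Equiv.ofBijective e hebij
  let act : A →* Equiv.Perm (Fin 4 → ZMod 2) :=
    MonoidHom.mk' (fun g => (E.trans (φ g).toEquiv).trans E.symm) fun g g' => Equiv.ext fun v => by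
      simp [map_mul, MulAut.mul_apply]
  have hact : ∀ g v, e (act g v) = φ g (e v) := fun g v => E.apply_symm_apply _
  refine classes_sp4_two_le act ?_ (fun g u v => hebij.1 (by
    rw [hact, headd, headd, map_mul, hact, hact])) fun g u v => ?_
  · rw [injective_iff_map_eq_one]
    intro g hg
    refine h.ext fun q => ?_
    obtain ⟨v, rfl⟩ := hesurj q
    rw [← hact, hg, Equiv.Perm.one_apply]
  · have h1 := heP (act g u) (act g v)
    rw [hact, hact, h.inv, heP] at h1
    have h2 := pow_inj_mod.mp h1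
    rw [hζ, Nat.mod_eq_of_lt (ZMod.val_lt _), Nat.mod_eq_of_lt (ZMod.val_lt _)] at h2
    exact (ZMod.val_injective 2 h2).symm

end Cfsg.Agent.Lib.ClassesModFitting
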