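import Mathlib
import Cfsg.Agent.Lib.ClassesModFitting.Two

/-!
# `k(A) ≤ 3 ^ (m - 1)` for isometry groups of pairings of squarefree exponent
-/

set_option autoImplicit false
set_option linter.style.haveILetI false
set_option linter.unusedSectionVars false

namespace Cfsg.Agent.Lib.ClassesModFitting

/-- The exponent in the general bound. -/
def gexp (m : ℕ) : ℕ := 2 * m ^ 2 + 3 * m + 2

theorem gexp_eq (m : ℕ) : 2 * (m + 1) + tri (2 * (m + 1) - 2) = gexp m := by
  have h := two_mul_tri (2 * m)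
  rw [show 2 * (m + 1) - 2 = 2 * m from by omega, gexp]
  have h2 : 2 * m * (2 * m + 1) = 2 * (2 * m ^ 2 + m) := by ring
  omega

theorem gexp_succ (m : ℕ) : gexp (m + 1) = gexp m + (4 * m + 5) := by
  rw [gexp, gexp]; ring

theorem gexp_three : ∀ m, 1 ≤ m → gexp m + 1 ≤ 3 ^ (m + 1) := by
  intro m hm
  induction m, hm using Nat.le_induction with
  | base => norm_num [gexp]
  | succ m hm ih =>
    have h1 : m + 1 < 3 ^ (m + 1) := Nat.lt_pow_self (by norm_num)
    have h2 : 3 ≤ 3 ^ m := Nat.le_self_pow (by omega) _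
    have h3 : 3 ^ (m + 1) = 3 ^ m * 3 := pow_succ _ _
    have h4 : m < 3 ^ m := Nat.lt_pow_self (by norm_num)
    rw [gexp_succ, pow_succ 3 (m + 1)]
    omega

theorem gexp_two : ∀ m, 4 ≤ m → 2 * gexp m + 3 ≤ 3 * 2 ^ (m + 1) := by
  intro m hm
  induction m, hm using Nat.le_induction with
  | base => norm_num [gexp]
  | succ m hm ih =>
    have h2 : 16 ≤ 2 ^ m := le_trans (by norm_num) (Nat.pow_le_pow_right (by norm_num) hm)
    have h4 : 4 * (m - 1) ≤ 2 ^ m := by
      have h5 : m - 2 < 2 ^ (m - 2) := Nat.lt_two_pow_self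
      have h6 : 2 ^ m = 2 ^ (m - 2) * 4 := by
        rw [show (4 : ℕ) = 2 ^ 2 from rfl, ← pow_add, Nat.sub_add_cancel (by omega)]
      omega
    have h3 : 2 ^ (m + 1) = 2 ^ m * 2 := pow_succ _ _
    rw [gexp_succ, pow_succ 2 (m + 1)]
    omega

theorem gexp_big {p : ℕ} (hp : 5 ≤ p) : ∀ m, gexp m * (p - 1) + 2 ≤ 2 * p ^ (m + 1) := by
  intro m
  induction m with
  | zero => simp [gexp]; omega
  | succ m ih =>
    obtain ⟨q, rfl⟩ : ∃ q, p = q + 1 := ⟨p - 1, by omega⟩
    have h1 : m + 1 < (q + 1) ^ (m + 1) := Nat.lt_pow_self (by omega)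
    have h2 : 5 ≤ (q + 1) ^ (m + 1) := hp.trans (Nat.le_self_pow (by omega) _)
    rw [gexp_succ, pow_succ _ (m + 1), Nat.add_sub_cancel] at *
    have h3 : 4 * m + 5 ≤ 2 * (q + 1) ^ (m + 1) := by
      rcases Nat.eq_zero_or_pos m with rfl | hm
      · omega
      · have : (q + 1) ^ (m + 1) = (q + 1) ^ m * (q + 1) := pow_succ _ _
        have h4 : m < (q + 1) ^ m := Nat.lt_pow_self (by omega)
        nlinarith
    nlinarith

theorem le_three_pow_half : ∀ j : ℕ, 2 * j + 1 ≤ 3 ^ j
  | 0 => by norm_num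
  | j + 1 => by
    have := le_three_pow_half j
    rw [pow_succ]
    omega

theorem general_numeric {p m : ℕ} (hp : p.Prime) (h : (p = 2 → 4 ≤ m) ∧ (p = 3 → 1 ≤ m)) :
    p ^ gexp m ≤ 3 ^ (p ^ (m + 1) - 1) := by
  rcases eq_or_ne p 2 with rfl | h2
  · have := gexp_two m (h.1 rfl)
    refine (Nat.pow_le_pow_iff_left (show (2 : ℕ) ≠ 0 by norm_num)).mp ?_
    calc (2 ^ gexp m) ^ 2 = 2 ^ (2 * gexp m) := by rw [← pow_mul, mul_comm]
      _ ≤ 2 ^ (3 * (2 ^ (m + 1) - 1)) := Nat.pow_le_pow_right (by norm_num) (by omega)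
      _ = 8 ^ (2 ^ (m + 1) - 1) := by rw [pow_mul]; norm_num
      _ ≤ (3 ^ (2 ^ (m + 1) - 1)) ^ 2 := by
          rw [← pow_mul, mul_comm, pow_mul]
          exact Nat.pow_le_pow_left (by norm_num) _
  rcases eq_or_ne p 3 with rfl | h3
  · exact Nat.pow_le_pow_right (by norm_num) (by have := gexp_three m (h.2 rfl); omega)
  have hp5 : 5 ≤ p := by
    have := hp.two_le
    rcases Nat.lt_or_ge p 5 with hlt | hge
    · interval_cases p <;> first | omega | exact absurd hp (by norm_num)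
    · exact hge
  obtain ⟨j, rfl⟩ := hp.odd_of_ne_two h2
  refine (Nat.pow_le_pow_left (le_three_pow_half j) _).trans ?_
  rw [← pow_mul]
  refine Nat.pow_le_pow_right (by norm_num) ?_
  have h4 := gexp_big hp5 m
  rw [Nat.add_sub_cancel] at h4
  have h5 : 2 * (j * gexp m) = gexp m * (2 * j) := by ring
  omega

universe u

variable {F : Type*} [Field F]

theorem IsIso.classes_elementary {Q : Type*} [CommGroup Q] [Finite Q] {A : Type*} [Group A]
    [Finite A] {P : Q →* Q →* Fˣ} {φ : A →* MulAut Q} (h : IsIso P φ) {p : ℕ} [hp : Fact p.Prime]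
    (hexp : ∀ v : Q, v ^ p = 1) {n : ℕ} (hn : 1 ≤ n) (hQ : Nat.card Q = p ^ (2 * n)) :
    Nat.card (ConjClasses A) ≤ 3 ^ (p ^ n - 1) := by
  have hgen := h.classes_le_general hexp hn hQ
  by_cases hsmall : (p = 2 → 5 ≤ n) ∧ (p = 3 → 2 ≤ n)
  · obtain ⟨m, rfl⟩ := Nat.exists_eq_add_of_le' hn
    refine le_trans ?_ (general_numeric (m := m) hp.out
      ⟨fun h => by have := hsmall.1 h; omega, fun h => by have := hsmall.2 h; omega⟩)
    refine hgen.trans ?_
    rw [← gexp_eq, pow_add]
    set a := p ^ (2 * (m + 1))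
    set b := p ^ tri (2 * (m + 1) - 2)
    have hb : 2 ≤ b ∨ b = 1 := by
      have : 0 < b := Nat.pow_pos hp.out.pos
      omega
    have ha : 4 ≤ a := by
      calc 4 = 2 ^ 2 := rfl
        _ ≤ p ^ 2 := Nat.pow_le_pow_left hp.out.two_le _
        _ ≤ a := Nat.pow_le_pow_right hp.out.pos (by omega)
    have hab : (a - 1) * b + b = a * b := by rw [← Nat.succ_mul]; congr 1; omega
    have hpos : 1 ≤ (a - 1) * b := Nat.mul_pos (by omega) (Nat.pow_pos hp.out.pos)
    have hb1 : 1 ≤ b := Nat.pow_pos hp.out.pos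
    split_ifs <;> omega
  · have hcase : (p = 2 ∧ n ≤ 4) ∨ (p = 3 ∧ n = 1) := by
      rcases not_and_or.mp hsmall with h1 | h1 <;> push Not at h1
      · exact Or.inl ⟨h1.1, by omega⟩
      · exact Or.inr ⟨h1.1, by omega⟩
    rcases hcase with ⟨rfl, hn4⟩ | ⟨rfl, rfl⟩
    · have e8 : n = 1 ∨ n = 2 ∨ n = 3 ∨ n = 4 := by omega
      rcases e8 with rfl | rfl | rfl | rfl
      · exact hgen.trans (by decide)
      · exact (h.classes_le_sixteen hexp hQ).trans (by norm_num)
      · exact (h.classes_le_two hexp (by norm_num) hQ).trans (by decide +kernel)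
      · exact (h.classes_le_two hexp (by norm_num) hQ).trans (by decide +kernel)
    · exact hgen.trans (by decide)

/-- The evenness of the order. -/
theorem exists_sq_card {Q : Type u} [CommGroup Q] [Finite Q] (P : Q →* Q →* Fˣ)
    (halt : ∀ u, P u u = 1) (hnd : ∀ u, (∀ v, P u v = 1) → u = 1) :
    ∃ y, Nat.card Q = y ^ 2 := by
  obtain ⟨y, -, -, hy, -⟩ := ClassLowerSolv.card_pairing_le (Nat.card Q) P
    (⊥ : Subgroup (MulAut Q)).subtype rfl Subtype.val_injective halt hnd (fun g u v => by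
      rw [show g = 1 from Subsingleton.elim _ _, map_one, MulAut.one_apply, MulAut.one_apply])
  exact ⟨y, hy⟩

theorem three_pow_combine {a b m : ℕ} (ha : 1 ≤ a) (hb : 1 ≤ b) (hm : a * b ≤ m) :
    3 ^ (a - 1) * 3 ^ (b - 1) ≤ 3 ^ (m - 1) := by
  obtain ⟨a, rfl⟩ := Nat.exists_eq_add_of_le' ha
  obtain ⟨b, rfl⟩ := Nat.exists_eq_add_of_le' hb
  rw [← pow_add]
  refine Nat.pow_le_pow_right (by norm_num) ?_
  have : (a + 1) * (b + 1) = a * b + a + b + 1 := by ring
  omega

/-- A group of isometries of a nondegenerate alternating pairing of squarefree exponent. -/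
theorem classes_pairing_le : ∀ (x : ℕ) {Q : Type u} [CommGroup Q] [Finite Q] {A : Type u}
    [Group A] [Finite A] {P : Q →* Q →* Fˣ} {φ : A →* MulAut Q}, Nat.card Q = x → IsIso P φ →
    Squarefree (Monoid.exponent Q) → ∀ {m : ℕ}, 1 ≤ m → x ≤ m ^ 2 →
    Nat.card (ConjClasses A) ≤ 3 ^ (m - 1) := by
  intro x
  induction x using Nat.strong_induction_on with
  | _ x ih => ?_
  intro Q _ _ A _ _ P φ hx h hsq m hm hxm
  classical
  rcases subsingleton_or_nontrivial Q with hQ | hQ
  · haveI : Subsingleton A := ⟨fun a b => (h.ext (x := a) fun v => Subsingleton.elim _ _).trans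
      (h.ext (x := b) fun v => Subsingleton.elim _ _).symm⟩
    rw [classes_eq_one_of_subsingleton]
    exact Nat.one_le_pow _ _ (by norm_num)
  set e := Monoid.exponent Q with he
  have he1 : e ≠ 1 := fun h1 => not_subsingleton Q (Monoid.exp_eq_one_iff.mp h1)
  set p := e.minFac
  haveI hp : Fact p.Prime := ⟨Nat.minFac_prime he1⟩
  obtain ⟨c, hc⟩ := Nat.minFac_dvd e
  have hc' : e = p * c := hc
  have hcop : p.Coprime c := Nat.coprime_of_squarefree_mul (hc' ▸ hsq)
  by_cases hc1 : c = 1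
  · -- exponent `p`
    have hexp : ∀ v : Q, v ^ p = 1 := fun v => by
      rw [show p = e by rw [hc', hc1, mul_one]]; exact Monoid.pow_exponent_eq_one v
    obtain ⟨y, hy⟩ := exists_sq_card P h.alt h.nd
    obtain ⟨k, hk⟩ := IsPGroup.iff_card.mp
      (show IsPGroup p Q from fun g => ⟨1, by rw [pow_one]; exact hexp g⟩)
    obtain ⟨n, -, hn⟩ := (Nat.dvd_prime_pow hp.out).mp
      (show y ∣ p ^ k by rw [← hk, hy]; exact dvd_pow_self _ two_ne_zero)
    rw [hn, ← pow_mul, mul_comm] at hy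
    have hn1 : 1 ≤ n := by
      by_contra h0
      have h1 : 1 < Nat.card Q := Finite.one_lt_card
      rw [hy, show n = 0 by omega] at h1
      simp at h1
    refine (h.classes_elementary hexp hn1 hy).trans (Nat.pow_le_pow_right (by norm_num) ?_)
    refine Nat.sub_le_sub_right ((Nat.pow_le_pow_iff_left two_ne_zero).mp ?_) 1
    rw [← pow_mul, mul_comm, ← hy, hx]
    exact hxm
  · -- split off the `p`-part
    set Q1 := (powMonoidHom p : Q →* Q).ker with hQ1
    set Q2 := (powMonoidHom c : Q →* Q).ker with hQ2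
    have hm1 : ∀ v, v ∈ Q1 ↔ v ^ p = 1 := fun v => by rw [hQ1, MonoidHom.mem_ker, powMonoidHom_apply]
    have hm2 : ∀ v, v ∈ Q2 ↔ v ^ c = 1 := fun v => by rw [hQ2, MonoidHom.mem_ker, powMonoidHom_apply]
    have hone : ∀ z : Q, z ^ p = 1 → z ^ c = 1 → z = 1 := fun z h1 h2 => by
      have := pow_gcd_eq_one.mpr ⟨h1, h2⟩
      rwa [hcop.gcd_eq_one, pow_one] at this
    have horth : ∀ a ∈ Q1, ∀ b ∈ Q2, P a b = 1 := fun a ha b hb => by
      have := pow_gcd_eq_one.mpr (And.intro
        (show P a b ^ p = 1 by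
          rw [← MonoidHom.pow_apply, ← map_pow, (hm1 a).mp ha, map_one, MonoidHom.one_apply])
        (show P a b ^ c = 1 by rw [← map_pow, (hm2 b).mp hb, map_one]))
      rwa [hcop.gcd_eq_one, pow_one] at this
    -- the product map
    let μ : Q1 × Q2 → Q := fun z => (z.1 : Q) * z.2
    have hμ : Function.Bijective μ := by
      refine ⟨fun a b hab => ?_, fun v => ?_⟩
      · have h1 : ((a.1 : Q) / b.1) = (b.2 : Q) / a.2 := div_eq_div_iff_mul_eq_mul.mpr (by
          rw [mul_comm (b.2 : Q)]; exact hab)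
        have h2 : (a.1 : Q) / b.1 = 1 := hone _ ((hm1 _).mp (div_mem a.1.2 b.1.2))
          (by rw [h1]; exact (hm2 _).mp (div_mem b.2.2 a.2.2))
        rw [h2] at h1
        exact Prod.ext (Subtype.ext (div_eq_one.mp h2)) (Subtype.ext (div_eq_one.mp h1.symm).symm)
      · refine ⟨(⟨v ^ ((c : ℤ) * Nat.gcdB p c), (hm1 _).mpr ?_⟩,
          ⟨v ^ ((p : ℤ) * Nat.gcdA p c), (hm2 _).mpr ?_⟩), ?_⟩
        · rw [← zpow_natCast, ← zpow_mul,
            show (c : ℤ) * Nat.gcdB p c * p = ((e : ℕ) : ℤ) * Nat.gcdB p c by rw [hc']; push_cast; ring,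
            zpow_mul, zpow_natCast, he, Monoid.pow_exponent_eq_one, one_zpow]
        · rw [← zpow_natCast, ← zpow_mul,
            show (p : ℤ) * Nat.gcdA p c * c = ((e : ℕ) : ℤ) * Nat.gcdA p c by rw [hc']; push_cast; ring,
            zpow_mul, zpow_natCast, he, Monoid.pow_exponent_eq_one, one_zpow]
        · show v ^ ((c : ℤ) * Nat.gcdB p c) * v ^ ((p : ℤ) * Nat.gcdA p c) = v
          rw [← zpow_add, add_comm, ← Nat.gcd_eq_gcd_ab, hcop.gcd_eq_one, Nat.cast_one, zpow_one]
    have hcard : Nat.card Q1 * Nat.card Q2 = Nat.card Q := by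
      rw [← Nat.card_prod]; exact Nat.card_eq_of_bijective μ hμ
    have hne1 : 1 < Nat.card Q1 := by
      obtain ⟨g, hg⟩ := Monoid.exists_orderOf_eq_exponent (G := Q) Monoid.ExponentExists.of_finite
      haveI : Nontrivial Q1 := nontrivial_of_ne ⟨g ^ c, (hm1 _).mpr (by
        rw [← pow_mul, mul_comm, ← hc', he, Monoid.pow_exponent_eq_one])⟩ 1 fun h1 => by
          have h2 : orderOf g ∣ c := orderOf_dvd_of_pow_eq_one (congrArg Subtype.val h1)
          rw [hg, ← he, hc'] at h2
          have hc0 : 0 < c := by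
            rcases Nat.eq_zero_or_pos c with h0 | h0
            · rw [h0, mul_zero] at hc'; exact absurd hc' Monoid.exponent_ne_zero_of_finite
            · exact h0
          have := Nat.le_of_dvd hc0 h2
          have := hp.out.two_le
          nlinarith
      exact Finite.one_lt_card
    have hne2 : 1 < Nat.card Q2 := by
      obtain ⟨g, hg⟩ := Monoid.exists_orderOf_eq_exponent (G := Q) Monoid.ExponentExists.of_finite
      haveI : Nontrivial Q2 := nontrivial_of_ne ⟨g ^ p, (hm2 _).mpr (by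
        rw [← pow_mul, ← hc', he, Monoid.pow_exponent_eq_one])⟩ 1 fun h1 => by
          have h2 : orderOf g ∣ p := orderOf_dvd_of_pow_eq_one (congrArg Subtype.val h1)
          rw [hg, ← he, hc'] at h2
          have h3 := Nat.le_of_dvd hp.out.pos h2
          have hc0 : c ≠ 0 := fun h0 => by
            rw [h0, mul_zero] at hc'; exact Monoid.exponent_ne_zero_of_finite hc'
          have hc2 : 2 ≤ c := by omega
          have := hp.out.two_le
          nlinarith
      exact Finite.one_lt_card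
    -- restricted actions
    have hinv1 : ∀ (g : A) (v : Q), v ∈ Q1 → φ g v ∈ Q1 := fun g v hv =>
      (hm1 _).mpr (by rw [← map_pow, (hm1 _).mp hv, map_one])
    have hinv2 : ∀ (g : A) (v : Q), v ∈ Q2 → φ g v ∈ Q2 := fun g v hv =>
      (hm2 _).mpr (by rw [← map_pow, (hm2 _).mp hv, map_one])
    let resHom : ∀ (S : Subgroup Q), (∀ (g : A) (v : Q), v ∈ S → φ g v ∈ S) → (A →* MulAut S) :=
      fun S hS => MonoidHom.mk' (fun g =>
        { toFun := fun v => ⟨φ g v, hS g v v.2⟩
          invFun := fun v => ⟨φ g⁻¹ v, hS g⁻¹ v v.2⟩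
          left_inv := fun v => Subtype.ext (by
            show φ g⁻¹ (φ g v) = v
            rw [← MulAut.mul_apply, ← map_mul, inv_mul_cancel, map_one, MulAut.one_apply])
          right_inv := fun v => Subtype.ext (by
            show φ g (φ g⁻¹ v) = v
            rw [← MulAut.mul_apply, ← map_mul, mul_inv_cancel, map_one, MulAut.one_apply])
          map_mul' := fun a b => Subtype.ext (map_mul (φ g) (a : Q) b) })
        fun g g' => MulEquiv.ext fun v => Subtype.ext (by
          show φ (g * g') v = φ g (φ g' v)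
          rw [map_mul, MulAut.mul_apply])
    set φ1 := resHom Q1 hinv1 with hφ1
    set φ2 := resHom Q2 hinv2 with hφ2
    let resP : ∀ S : Subgroup Q, S →* S →* Fˣ := fun S =>
      MonoidHom.mk' (fun u => (P (u : Q)).comp S.subtype) fun a b => MonoidHom.ext fun w => by simp
    have hnd1 : ∀ u : Q1, (∀ v, resP Q1 u v = 1) → u = 1 := fun u hu => Subtype.ext (h.nd _ fun v => by
      obtain ⟨⟨a, b⟩, rfl⟩ := hμ.2 v
      show P (u : Q) (a * b) = 1
      rw [map_mul, horth u u.2 b b.2, mul_one]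
      exact hu a)
    have hnd2 : ∀ u : Q2, (∀ v, resP Q2 u v = 1) → u = 1 := fun u hu => Subtype.ext (h.nd _ fun v => by
      obtain ⟨⟨a, b⟩, rfl⟩ := hμ.2 v
      show P (u : Q) (a * b) = 1
      rw [map_mul, h.swap (horth a a.2 u u.2), one_mul]
      exact hu b)
    have hI1 : IsIso (resP Q1) φ1.range.subtype :=
      ⟨Subtype.val_injective, fun u => h.alt _, hnd1, fun g u v => by
        obtain ⟨_, g, rfl⟩ := g
        exact h.inv g u v⟩
    have hI2 : IsIso (resP Q2) (φ2.comp φ1.ker.subtype) := by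
      refine ⟨fun a b hab => Subtype.ext (h.inj (MulEquiv.ext fun v => ?_)), fun u => h.alt _, hnd2,
        fun g u v => h.inv _ u v⟩
      obtain ⟨⟨w, z⟩, rfl⟩ := hμ.2 v
      show φ (a : A) ((w : Q) * z) = φ (b : A) ((w : Q) * z)
      rw [map_mul, map_mul]
      have e1 : φ (a : A) w = φ (b : A) w := congrArg (fun f : MulAut Q1 => ((f w : Q1) : Q))
        ((MonoidHom.mem_ker.mp a.2).trans (MonoidHom.mem_ker.mp b.2).symm)
      have e2 : φ (a : A) z = φ (b : A) z := congrArg (fun f : MulAut Q2 => ((f z : Q2) : Q)) hab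
      rw [e1, e2]
    have hsq1 : ∀ S : Subgroup Q, Squarefree (Monoid.exponent S) := fun S =>
      hsq.squarefree_of_dvd (Monoid.exponent_dvd_of_forall_pow_eq_one fun u =>
        Subtype.ext (Monoid.pow_exponent_eq_one (u : Q)))
    obtain ⟨a, ha⟩ := exists_sq_card (resP Q1) hI1.alt hI1.nd
    obtain ⟨b, hb⟩ := exists_sq_card (resP Q2) hI2.alt hI2.nd
    have ha1 : 1 ≤ a := Nat.pos_of_ne_zero fun h0 => by
      rw [h0, zero_pow two_ne_zero] at ha; omega
    have hb1 : 1 ≤ b := Nat.pos_of_ne_zero fun h0 => by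
      rw [h0, zero_pow two_ne_zero] at hb; omega
    have hlt1 : Nat.card Q1 < x := by
      rw [← hx, ← hcard]; exact lt_mul_of_one_lt_right Nat.card_pos hne2
    have hlt2 : Nat.card Q2 < x := by
      rw [← hx, ← hcard]; exact lt_mul_of_one_lt_left Nat.card_pos hne1
    have k1 := ih _ hlt1 rfl hI1 (hsq1 Q1) ha1 ha.le
    have k2 := ih _ hlt2 rfl hI2 (hsq1 Q2) hb1 hb.le
    refine (classes_le_normal φ1.ker).trans ?_
    rw [classes_congr (QuotientGroup.quotientKerEquivRange φ1), mul_comm]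
    refine (Nat.mul_le_mul k1 k2).trans (three_pow_combine ha1 hb1 ?_)
    refine (Nat.pow_le_pow_iff_left two_ne_zero).mp ?_
    rw [mul_pow, ← ha, ← hb, hcard, hx]
    exact hxm

end Cfsg.Agent.Lib.ClassesModFitting
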